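import Cfsg.Agent.Lib.Helper15.BG13CDefs
import Cfsg.Agent.S1414
import Cfsg.Agent.S1416
import Cfsg.Agent.S1417

/-!
# B&G Corollary 13.3(b) (row S1428): piece C-G1C (helper11 for helper15)
-/

set_option autoImplicit false

open Cfsg Cfsg.Agent.Lib.Helper32 Cfsg.Agent.Lib.Helper32.BG10 Cfsg.Agent.Lib.Helper3.BG12

open scoped commutatorElement

namespace Cfsg.Agent.Lib.Helper15.BG13C

universe u

variable {G : Type u} [Group G] [Finite G]

/-- a cyclic subgroup not inside a subgroup `C` has a Sylow subgroup not inside `C` -/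
theorem g1c_aux_sylow {Z C : Subgroup G} (hZC : ¬ Z ≤ C) :
    ∃ (t : ℕ) (_ : Fact t.Prime) (T : Subgroup G), T ∈ sylSet t Z ∧ ¬ T ≤ C := by
  by_contra hcon
  push Not at hcon
  apply hZC
  have hdvd : Nat.card Z ∣ Nat.card ↥(Z ⊓ C) := by
    have hZ0 : Nat.card Z ≠ 0 := Nat.card_pos.ne'
    have hW0 : Nat.card ↥(Z ⊓ C) ≠ 0 := Nat.card_pos.ne'
    rw [← Nat.factorization_prime_le_iff_dvd hZ0 hW0]
    intro t ht
    have : Fact t.Prime := ⟨ht⟩
    obtain ⟨T, hT⟩ := sylSet_nonempty t Z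
    have hTC : T ≤ C := hcon t ⟨ht⟩ T hT
    have h1 : Nat.card T ∣ Nat.card ↥(Z ⊓ C) := Subgroup.card_dvd_of_le (le_inf hT.1 hTC)
    rw [hT.2] at h1
    exact (ht.pow_dvd_iff_le_factorization hW0).mp h1
  have hle : Nat.card Z ≤ Nat.card ↥(Z ⊓ C) := Nat.le_of_dvd Nat.card_pos hdvd
  have heq : Z ⊓ C = Z := Subgroup.eq_of_le_of_card_ge inf_le_left hle
  exact heq ▸ inf_le_right

theorem g1c (hCF : CycFreeStmt G) : G1cStmt G := by
  intro hG M H hM hH hMH q _ hqM hqH P Q R hQsyl hQab hNH hRp hRN hC0ne hC0cyc ha hb hc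
  have h14 : H14 G := fun M hM => Cfsg.Agent.S1414.result hG M hM
  have h16 : H16 G := fun M hM p _ A hA => Cfsg.Agent.S1416.result hG M hM p A hA
  have h17 : H17 G := fun M hM p _ hp A hA => Cfsg.Agent.S1417.result hG M hM p hp A hA
  have h18 := Cfsg.Agent.Lib.Helper3.BG12.h18_of hG h16 h17
  have hq : q.Prime := Fact.out
  set N : Subgroup G := Subgroup.normalizer (Q : Set G) with hNdef
  set C₀ : Subgroup G := Q ⊓ Subgroup.centralizer (R : Set G) with hC₀def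
  set C : Subgroup G := Subgroup.centralizer (C₀ : Set G) with hCdef
  have hQN : Q ≤ N := Subgroup.le_normalizer
  have hQH : Q ≤ H := hQN.trans hNH
  have hQp : IsPGroup q Q := isPGroup_of_mem_sylSet hQsyl
  have hC₀Q : C₀ ≤ Q := inf_le_left
  -- centralizer of Q centralizes C₀
  have hCQC : Subgroup.centralizer (Q : Set G) ≤ C :=
    Subgroup.centralizer_le (by exact_mod_cast hC₀Q)
  -- Q centralizes C₀ (Q abelian)
  have hQC : Q ≤ C := by
    intro x hx
    rw [hCdef, Subgroup.mem_centralizer_iff]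
    intro c hc
    have h1 := hQab.is_comm.comm (⟨c, hC₀Q hc⟩ : Q) ⟨x, hx⟩
    have h2 := congrArg Subtype.val h1
    simpa using h2
  -- step 1: N normalizes C₀
  have hconj : ∀ n ∈ N, ∀ c ∈ C₀, n * c * n⁻¹ ∈ C₀ := by
    intro n hn c hc
    have hcQ : c ∈ Q := hc.1
    have hcR : c ∈ Subgroup.centralizer (R : Set G) := hc.2
    refine Subgroup.mem_inf.mpr ⟨(Subgroup.mem_normalizer_iff.mp hn c).mp hcQ, ?_⟩
    rw [Subgroup.mem_centralizer_iff]
    intro z hz
    have hzN : z ∈ N := hRN hz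
    set g : G := n⁻¹ * z * n * z⁻¹ with hgdef
    have hgN : g ∈ N := N.mul_mem (N.mul_mem (N.mul_mem (N.inv_mem hn) hzN) hn) (N.inv_mem hzN)
    have hgH : g ∈ ⁅H, H⁆ := by
      have h1 : ⁅n⁻¹, z⁆ ∈ ⁅H, H⁆ :=
        Subgroup.commutator_mem_commutator (H.inv_mem (hNH hn)) (hNH hzN)
      have h2 : ⁅n⁻¹, z⁆ = g := by
        rw [hgdef, commutatorElement_def, inv_inv]
      rwa [h2] at h1
    have hgC : g ∈ Subgroup.centralizer (Q : Set G) := ha ⟨hgN, hgH⟩
    have hg : c * g = g * c := Subgroup.mem_centralizer_iff.mp hgC c hcQ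
    have hzc : z * c = c * z := Subgroup.mem_centralizer_iff.mp hcR z hz
    have e1 : z * (n * c * n⁻¹) = n * (g * (z * c)) * n⁻¹ := by
      rw [hgdef]; group
    have e2 : n * (g * (c * z)) * n⁻¹ = n * ((g * c) * z) * n⁻¹ := by group
    have e3 : n * ((c * g) * z) * n⁻¹ = n * c * n⁻¹ * z := by
      rw [hgdef]; group
    rw [e1, hzc, e2, ← hg, e3]
  have hNC₀ : N ≤ Subgroup.normalizer (C₀ : Set G) := by
    intro n hn
    rw [Subgroup.mem_normalizer_iff]
    intro c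
    constructor
    · exact hconj n hn c
    · intro h
      have h2 := hconj n⁻¹ (N.inv_mem hn) _ h
      have e : n⁻¹ * (n * c * n⁻¹) * n⁻¹⁻¹ = c := by group
      rwa [e] at h2
  -- step 2: N ⊓ C(P) does not centralize C₀
  have hstep2 : ¬ (N ⊓ Subgroup.centralizer (P : Set G)) ≤ C := by
    intro hle
    have hNC : N ≤ C := hc.trans (sup_le (inf_le_right.trans hCQC) hle)
    apply hC0ne
    rw [eq_bot_iff, ← hb]
    intro c hcC₀
    refine Subgroup.mem_inf.mpr ⟨hC₀Q hcC₀, ?_⟩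
    rw [Subgroup.mem_centralizer_iff]
    intro n hn
    have h1 : n ∈ C := hNC hn
    rw [hCdef, Subgroup.mem_centralizer_iff] at h1
    exact (h1 c hcC₀).symm
  obtain ⟨g, hgNP, hgC⟩ : ∃ g, g ∈ N ⊓ Subgroup.centralizer (P : Set G) ∧ g ∉ C := by
    by_contra hcon
    push Not at hcon
    exact hstep2 hcon
  -- step 3: a Sylow subgroup of ⟨g⟩ not centralizing C₀
  have hZle : Subgroup.zpowers g ≤ N ⊓ Subgroup.centralizer (P : Set G) :=
    (Subgroup.zpowers_le).mpr hgNP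
  have hZC : ¬ Subgroup.zpowers g ≤ C := fun h => hgC (h (Subgroup.mem_zpowers g))
  obtain ⟨t, htF, T, hT, hTC⟩ := g1c_aux_sylow hZC
  have := htF
  have ht : t.Prime := Fact.out
  have hTp : IsPGroup t T := isPGroup_of_mem_sylSet hT
  obtain ⟨v, hvT, hvC⟩ : ∃ v, v ∈ T ∧ v ∉ C := by
    by_contra hcon
    push Not at hcon
    exact hTC hcon
  have hvNP : v ∈ N ⊓ Subgroup.centralizer (P : Set G) := hZle (hT.1 hvT)
  have hvN : v ∈ N := hvNP.1
  have hvH : v ∈ H := hNH hvN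
  have hv1 : v ≠ 1 := by
    rintro rfl
    exact hvC C.one_mem
  have hVp : IsPGroup t (Subgroup.zpowers v) :=
    hTp.to_le ((Subgroup.zpowers_le).mpr hvT)
  have hVN : Subgroup.zpowers v ≤ N := (Subgroup.zpowers_le).mpr hvN
  have hVH : Subgroup.zpowers v ≤ H := hVN.trans hNH
  -- step 4: t ≠ q
  have htq : t ≠ q := by
    rintro rfl
    have h1 : IsPGroup t (Q ⊔ Subgroup.zpowers v : Subgroup G) :=
      IsPGroup.to_sup_of_normal_left' hQp hVp hVN
    have h2 : Q ⊔ Subgroup.zpowers v = Q :=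
      sylSet_eq_of_le hQsyl h1 le_top le_sup_left
    have h3 : v ∈ Q := h2 ▸ (le_sup_right : Subgroup.zpowers v ≤ Q ⊔ Subgroup.zpowers v)
      (Subgroup.mem_zpowers v)
    exact hvC (hQC h3)
  -- step 5: v ∉ ⁅H,H⁆ and t ∉ σ(H)
  have hvcomm : v ∉ ⁅H, H⁆ := fun h => hvC (hCQC (ha ⟨hvN, h⟩))
  have htσ : t ∉ sigma H := by
    intro h
    have h1 : Subgroup.zpowers v ≤ sigmaCore H :=
      Cfsg.Agent.Lib.Helper3.BG12S.pgroup_le_sigmaCore hG hH h hVp hVH
    exact hvcomm (Cfsg.Agent.Lib.Helper3.BG12S.sigmaCore_le_comm hG hH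
      (h1 (Subgroup.mem_zpowers v)))
  -- step 6: the t-rank of H is at most 1
  have hrank : PRankLE t 1 ↥H := by
    by_contra hr
    have hr2 : PRankLE t 2 ↥H := by
      by_contra h2
      exact htσ (alpha_sub_sigma hG (ut_of hG) hH ⟨ht, h2⟩)
    have hτ : t ∈ tau2 H := ⟨ht, htσ, hr2, hr⟩
    obtain ⟨S, hS⟩ := sylSet_nonempty t H
    obtain ⟨A, hAS, hAel, hAcard⟩ :=
      Cfsg.Agent.Lib.Helper3.BG12S.exists_elemAb2_le_sylSet hr hS
    have hnil := (h17 H hH t hτ A ⟨hAS.trans hS.1, hAel, hAcard⟩).1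
    obtain ⟨x, hx⟩ := Cfsg.Agent.Lib.Helper3.BG13T.exists_cj_of_sigma_sigma_nilpotent
      hG hM hH hnil hqM hqH
    exact hMH x hx
  -- step 7: V of order t in ⟨v⟩ does not centralize C₀
  obtain ⟨V, hVle, hVcard⟩ := Cfsg.Agent.Lib.Helper3.BG13T.exists_card_prime_le_zpowers hVp
    (Subgroup.mem_zpowers v) hv1
  have hcc := Cfsg.Agent.Lib.Helper3.BG13.cyclic_centralizes hG h14 h17 h18 hH htσ hrank
    hVcard hVle hVH hVp (Subgroup.isCyclic_zpowers v)
  have hQσ : Q ≤ sigmaCore H :=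
    Cfsg.Agent.Lib.Helper3.BG12S.pgroup_le_sigmaCore hG hH hqH hQp hQH
  have hVnC : ¬ V ≤ C := by
    intro hVC
    apply hvC
    have h1 : v ∈ Subgroup.centralizer
        ((sigmaCore H ⊓ Subgroup.centralizer (V : Set G) : Subgroup G) : Set G) :=
      hcc (Subgroup.mem_zpowers v)
    rw [hCdef, Subgroup.mem_centralizer_iff]
    intro c hcC₀
    have h2 : c ∈ sigmaCore H ⊓ Subgroup.centralizer (V : Set G) := by
      refine Subgroup.mem_inf.mpr ⟨hQσ (hC₀Q hcC₀), ?_⟩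
      rw [Subgroup.mem_centralizer_iff]
      intro x hx
      have h3 : x ∈ C := hVC hx
      rw [hCdef, Subgroup.mem_centralizer_iff] at h3
      exact (h3 c hcC₀).symm
    exact Subgroup.mem_centralizer_iff.mp h1 c h2
  -- step 8: V acts freely on C₀
  have hfree : FreeOn V C₀ := by
    refine hCF q C₀ V (hQp.to_le hC₀Q) hC0cyc (by rw [hVcard]; exact ht)
      (by rw [hVcard]; exact (Nat.coprime_primes ht hq).mpr htq) ((hVle.trans hVN).trans hNC₀) ?_
    exact hVnC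
  exact ⟨t, htF, V, hVle.trans hVH, hVcard, htσ, hrank,
    (hVle.trans ((Subgroup.zpowers_le).mpr hvNP)).trans inf_le_right,
    (hVle.trans hVN).trans hNC₀, hfree⟩

end Cfsg.Agent.Lib.Helper15.BG13C
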