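import Mathlib
import Cfsg.Agent.Lib.Helper18.CTDefs

/-! Project CT (S4699, helper18), piece MACK1 (backup copy by helper11): the sum of an
equivariant function over a finite set on which a permutation of order dividing `q` acts freely
is a conjugation trace. -/

set_option autoImplicit false

namespace Cfsg.Agent.Lib.Helper18.CT

variable {G : Type*} [Group G] {F : Type*} [Field F] {V : Type*} [AddCommGroup V] [Module F V]

theorem mack1b_aux {Ω : Type*} [DecidableEq Ω] (T : Equiv.Perm Ω) (q : ℕ) (hq : 0 < q)
    (hTq : T ^ q = 1) (X Xi : Module.End F V) (f : Ω → Module.End F V)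
    (hf : ∀ c, f (T c) = X * f c * Xi) :
    ∀ (n : ℕ) (S : Finset Ω), S.card = n → (∀ c ∈ S, T c ∈ S) →
      (∀ c ∈ S, ∀ i, 0 < i → i < q → (T ^ i) c ≠ c) →
      ∃ φ : Module.End F V, ∑ c ∈ S, f c = trX X Xi q φ := by
  intro n
  induction n using Nat.strong_induction_on with
  | _ n ih =>
    intro S hn hS hfree
    by_cases hS0 : S = ∅
    · refine ⟨0, ?_⟩
      rw [hS0, Finset.sum_empty]
      simp [trX]
    · obtain ⟨c, hc⟩ := Finset.nonempty_iff_ne_empty.2 hS0
      have hpow : ∀ i : ℕ, (T ^ i) c ∈ S := by
        intro i
        induction i with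
        | zero => simpa using hc
        | succ i ihi =>
          rw [pow_succ', Equiv.Perm.mul_apply]
          exact hS _ ihi
      have hfpow : ∀ i : ℕ, f ((T ^ i) c) = X ^ i * f c * Xi ^ i := by
        intro i
        induction i with
        | zero => simp
        | succ i ihi =>
          rw [pow_succ' T i, Equiv.Perm.mul_apply, hf, ihi, pow_succ' X i, pow_succ Xi i]
          simp only [mul_assoc]
      have key : ∀ i j : ℕ, i < j → j < q → (T ^ i) c ≠ (T ^ j) c := by
        intro i j hij hjq heq
        have e : i + (j - i) = j := by omega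
        have h2 : (T ^ j) c = (T ^ i) ((T ^ (j - i)) c) := by
          rw [← Equiv.Perm.mul_apply, ← pow_add, e]
        rw [h2] at heq
        exact hfree c hc (j - i) (by omega) (by omega) ((T ^ i).injective heq).symm
      have hinj : ∀ i ∈ Finset.range q, ∀ j ∈ Finset.range q,
          (T ^ i) c = (T ^ j) c → i = j := by
        intro i hi j hj heq
        rw [Finset.mem_range] at hi hj
        rcases Nat.lt_trichotomy i j with h | h | h
        · exact absurd heq (key i j h hj)
        · exact h
        · exact absurd heq.symm (key j i h hi)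
      have hOS : (Finset.range q).image (fun i => (T ^ i) c) ⊆ S := by
        intro x hx
        rw [Finset.mem_image] at hx
        obtain ⟨i, _, rfl⟩ := hx
        exact hpow i
      have hsumO : ∑ c' ∈ (Finset.range q).image (fun i => (T ^ i) c), f c' =
          trX X Xi q (f c) := by
        rw [Finset.sum_image (fun i hi j hj h => hinj i hi j hj h)]
        unfold trX
        exact Finset.sum_congr rfl (fun i _ => hfpow i)
      have hcO : c ∈ (Finset.range q).image (fun i => (T ^ i) c) := by
        rw [Finset.mem_image]
        exact ⟨0, Finset.mem_range.2 hq, by simp⟩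
      have hS' : ∀ c' ∈ S \ (Finset.range q).image (fun i => (T ^ i) c),
          T c' ∈ S \ (Finset.range q).image (fun i => (T ^ i) c) := by
        intro c' hc'
        rw [Finset.mem_sdiff] at hc' ⊢
        refine ⟨hS c' hc'.1, fun hT => hc'.2 ?_⟩
        rw [Finset.mem_image] at hT ⊢
        obtain ⟨i, hi, hiT⟩ := hT
        rw [Finset.mem_range] at hi
        rcases Nat.eq_zero_or_pos i with h0 | hpos
        · refine ⟨q - 1, Finset.mem_range.2 (by omega), ?_⟩
          rw [h0] at hiT
          apply T.injective
          have e : q - 1 + 1 = q := by omega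
          rw [← Equiv.Perm.mul_apply, ← pow_succ', e, hTq, ← hiT]
          simp
        · refine ⟨i - 1, Finset.mem_range.2 (by omega), ?_⟩
          apply T.injective
          have e : i - 1 + 1 = i := by omega
          rw [← Equiv.Perm.mul_apply, ← pow_succ', e]
          exact hiT
      have hfree' : ∀ c' ∈ S \ (Finset.range q).image (fun i => (T ^ i) c),
          ∀ i, 0 < i → i < q → (T ^ i) c' ≠ c' :=
        fun c' hc' => hfree c' (Finset.mem_sdiff.1 hc').1
      have hcard : (S \ (Finset.range q).image (fun i => (T ^ i) c)).card < n := by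
        rw [← hn]
        apply Finset.card_lt_card
        refine ⟨Finset.sdiff_subset, fun hsub => ?_⟩
        have h1 := hsub hc
        rw [Finset.mem_sdiff] at h1
        exact h1.2 hcO
      obtain ⟨φ', hφ'⟩ := ih _ hcard _ rfl hS' hfree'
      refine ⟨φ' + f c, ?_⟩
      rw [← Finset.sum_sdiff hOS, hφ', hsumO]
      simp [trX, mul_add, add_mul, Finset.sum_add_distrib]

-- piece MACK1
theorem free_orbit_sum {Ω : Type*} (T : Equiv.Perm Ω) (q : ℕ) (hq : 0 < q) (hTq : T ^ q = 1)
    (S : Finset Ω) (hS : ∀ c ∈ S, T c ∈ S)
    (hfree : ∀ c ∈ S, ∀ i, 0 < i → i < q → (T ^ i) c ≠ c)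
    (X Xi : Module.End F V) (f : Ω → Module.End F V) (hf : ∀ c, f (T c) = X * f c * Xi) :
    ∃ φ : Module.End F V, ∑ c ∈ S, f c = trX X Xi q φ := by
  classical
  exact mack1b_aux T q hq hTq X Xi f hf _ S rfl hS hfree

end Cfsg.Agent.Lib.Helper18.CT
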