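import Mathlib
import Cfsg.Agent.S4700
import Cfsg.Agent.Lib.Helper6.PSLCard
import Cfsg.Agent.Lib.Helper23.Syl
import Cfsg.Agent.Lib.Helper76.SylPrime

/-!
# S4274 piece R1 (helper11): a nonabelian simple group whose order is a proper divisor of
175560 divisible by 19 falls into one of five numerical cases
-/

set_option autoImplicit false

namespace Cfsg.Agent.S4274T

open Cfsg.Agent.Lib.Helper23 Cfsg.Agent.Lib.Helper76.SylPrime
open scoped commutatorElement

theorem r1_brauer_reynolds {H : Type*} [Group H] [Finite H] [IsSimpleGroup H]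
    (hG : ¬ IsMulCommutative H) (hdvd : Nat.card H ∣ 175560) [Fact (Nat.Prime 19)]
    (hc : ∀ Q : Sylow 19 H, Nat.card (Q : Subgroup H) = 19) (n : ℕ) (hn : n = 1 ∨ n = 4)
    (hs : Nat.card (Sylow 19 H) = 1 + n * 19) : False := by
  obtain ⟨P⟩ : Nonempty (Sylow 19 H) := inferInstance
  have hperf : commutator H = ⊤ := by
    rcases (inferInstance : (commutator H).Normal).eq_bot_or_eq_top with hb | ht
    · exfalso
      apply hG
      constructor
      constructor
      intro a b
      have h1 : ⁅a, b⁆ ∈ commutator H :=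
        Subgroup.commutator_mem_commutator (Subgroup.mem_top a) (Subgroup.mem_top b)
      rw [hb, Subgroup.mem_bot, commutatorElement_eq_one_iff_mul_comm] at h1
      exact h1
    · exact ht
  rcases Cfsg.Agent.S4700.result hperf 19 P (hc P) n hs with
    ⟨F, _, _, hF, -, ⟨e⟩⟩ | ⟨m, F, _, _, hF, hpm, -, -⟩ | ⟨h, u, hh, hu, heq⟩
  · have hcard : Nat.card (H ⧸ Cfsg.pPrimeCore 19 H) =
        Nat.card (Matrix.ProjectiveSpecialLinearGroup (Fin 2) F) := Nat.card_congr e.toEquiv
    have hpsl := Cfsg.Agent.Lib.Helper6.card_psl hF 2 (by norm_num)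
    rw [Fin.prod_univ_two, ← hcard] at hpsl
    simp only [Fin.val_zero, Fin.val_one, pow_zero, pow_one] at hpsl
    norm_num at hpsl
    have h3420 : Nat.card (H ⧸ Cfsg.pPrimeCore 19 H) = 3420 := by omega
    have hd : Nat.card (H ⧸ Cfsg.pPrimeCore 19 H) ∣ Nat.card H :=
      Subgroup.card_quotient_dvd_card _
    rw [h3420] at hd
    have h2 := dvd_trans hd hdvd
    norm_num at h2
  · have h18 : 2 ^ m = 18 := by omega
    have hm : m < 5 := by
      by_contra hcon
      have : 2 ^ 5 ≤ 2 ^ m := Nat.pow_le_pow_right (by norm_num) (by omega)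
      omega
    interval_cases m <;> omega
  · have h1 : u ≤ h * u := Nat.le_mul_of_pos_left u hh
    rcases hn with rfl | rfl
    · nlinarith [Nat.mul_pos hh hu]
    · nlinarith [Nat.mul_pos hh hu]

theorem no_simple_of_cases {H : Type*} [Group H] [Finite H] [IsSimpleGroup H]
    (hG : ¬ IsMulCommutative H) (hdvd : Nat.card H ∣ 175560) (h19 : 19 ∣ Nat.card H)
    (hne : Nat.card H ≠ 175560)
    (ha : Nat.card H = 7980 → Nat.card (Sylow 19 H) = 210 → False)
    (hb : Nat.card H = 15960 → Nat.card (Sylow 19 H) = 210 → False)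
    (hc : Nat.card H = 87780 → Nat.card (Sylow 19 H) = 210 → False)
    (hd : Nat.card H = 58520 → Nat.card (Sylow 19 H) = 1540 → False)
    (he : Nat.card H = 87780 → Nat.card (Sylow 19 H) = 1540 → False) : False := by
  have : Fact (Nat.Prime 19) := ⟨by norm_num⟩
  obtain ⟨k, hk⟩ := h19
  have hk9240 : k ∣ 9240 := by
    rw [hk, show (175560 : ℕ) = 19 * 9240 from by norm_num] at hdvd
    exact (Nat.mul_dvd_mul_iff_left (by norm_num : 0 < 19)).mp hdvd
  have hkne : k ≠ 9240 := by
    rintro rfl
    exact hne (by rw [hk])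
  have hm : ¬ 19 ∣ k := by
    intro h
    have h2 := dvd_trans h hk9240
    norm_num at h2
  have h1 : Nat.card H = 19 ^ 1 * k := by rw [hk, pow_one]
  have hk1 : k ≠ 1 := by
    rintro rfl
    apply hG
    have hp : Nat.card H = 19 := by rw [hk]
    have : IsCyclic H := isCyclic_of_prime_card hp
    exact isMulCommutative_of_isCyclic
  have hcS : ∀ Q : Sylow 19 H, Nat.card (Q : Subgroup H) = 19 := fun Q => by
    have := sylow_card_of_eq h1 hm Q
    rwa [pow_one] at this
  have hmem := card_sylow_mem_filter h1 hm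
  have hnek := simple_sylow_card_ne_one h1 hm (by norm_num) hk1
  rw [Finset.mem_filter, Nat.mem_divisors] at hmem
  obtain ⟨⟨hnk, hk0⟩, hmod⟩ := hmem
  have hn9240 : Nat.card (Sylow 19 H) ∈ (Nat.divisors 9240).filter (fun d => d % 19 = 1) := by
    rw [Finset.mem_filter, Nat.mem_divisors]
    exact ⟨⟨dvd_trans hnk hk9240, by norm_num⟩, hmod⟩
  rw [show (Nat.divisors 9240).filter (fun d => d % 19 = 1) = {1, 20, 77, 210, 1540} from by
    decide +kernel] at hn9240
  simp only [Finset.mem_insert, Finset.mem_singleton] at hn9240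
  obtain ⟨P⟩ : Nonempty (Sylow 19 H) := inferInstance
  obtain ⟨r, c, hr, hr1, hC, hN, hcard⟩ := card_centralizer_mul hG hcS P
  have hrd : r ∈ Nat.divisors 18 := by
    rw [Nat.mem_divisors]
    exact ⟨hr, by norm_num⟩
  rw [show Nat.divisors 18 = {1, 2, 3, 6, 9, 18} from by decide +kernel] at hrd
  simp only [Finset.mem_insert, Finset.mem_singleton] at hrd
  rcases hn9240 with h2 | h2 | h2 | h2 | h2
  · exact hnek h2
  · exact r1_brauer_reynolds hG hdvd hcS 1 (Or.inl rfl) (by rw [h2])
  · exact r1_brauer_reynolds hG hdvd hcS 4 (Or.inr rfl) (by rw [h2])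
  · rw [h2, hk] at hcard
    obtain ⟨v, hv⟩ : ∃ v, v = c * r := ⟨_, rfl⟩
    have hkv : k = v * 210 := by rw [hv]; nlinarith
    have hv44 : v ∣ 44 := by
      rw [hkv, show (9240 : ℕ) = 44 * 210 from by norm_num] at hk9240
      exact (Nat.mul_dvd_mul_iff_right (by norm_num : 0 < 210)).mp hk9240
    have hvne : v ≠ 44 := by
      rintro rfl
      exact hkne (by rw [hkv])
    have hvd : v ∈ Nat.divisors 44 := by
      rw [Nat.mem_divisors]
      exact ⟨hv44, by norm_num⟩
    rw [show Nat.divisors 44 = {1, 2, 4, 11, 22, 44} from by decide +kernel] at hvd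
    simp only [Finset.mem_insert, Finset.mem_singleton] at hvd
    have hHv : Nat.card H = 19 * (v * 210) := by rw [hk, hkv]
    rcases hvd with rfl | rfl | rfl | rfl | rfl | rfl
    · rcases hrd with rfl | rfl | rfl | rfl | rfl | rfl <;> omega
    · exact ha (by rw [hHv]) h2
    · exact hb (by rw [hHv]) h2
    · rcases hrd with rfl | rfl | rfl | rfl | rfl | rfl <;> omega
    · exact hc (by rw [hHv]) h2
    · exact hvne rfl
  · rw [h2, hk] at hcard
    obtain ⟨v, hv⟩ : ∃ v, v = c * r := ⟨_, rfl⟩
    have hkv : k = v * 1540 := by rw [hv]; nlinarith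
    have hv6 : v ∣ 6 := by
      rw [hkv, show (9240 : ℕ) = 6 * 1540 from by norm_num] at hk9240
      exact (Nat.mul_dvd_mul_iff_right (by norm_num : 0 < 1540)).mp hk9240
    have hvne : v ≠ 6 := by
      rintro rfl
      exact hkne (by rw [hkv])
    have hvd : v ∈ Nat.divisors 6 := by
      rw [Nat.mem_divisors]
      exact ⟨hv6, by norm_num⟩
    rw [show Nat.divisors 6 = {1, 2, 3, 6} from by decide +kernel] at hvd
    simp only [Finset.mem_insert, Finset.mem_singleton] at hvd
    have hHv : Nat.card H = 19 * (v * 1540) := by rw [hk, hkv]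
    rcases hvd with rfl | rfl | rfl | rfl
    · rcases hrd with rfl | rfl | rfl | rfl | rfl | rfl <;> omega
    · exact hd (by rw [hHv]) h2
    · exact he (by rw [hHv]) h2
    · exact hvne rfl

end Cfsg.Agent.S4274T
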