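import Mathlib
import Cfsg.Agent.Lib.Helper23.Syl
import Cfsg.Agent.Lib.Helper23.Count
import Cfsg.Agent.Lib.Helper76.SylPrime

/-!
# S4274 tools, part 2 (helper11): centralizers of Sylow subgroups of prime order and
elements of order divisible by `p`
-/

set_option autoImplicit false

namespace Cfsg.Agent.S4274T

open Subgroup

variable {G : Type*} [Group G] [Finite G]

theorem t2_mem_smul_iff (p : ℕ) [Fact p.Prime] (P : Sylow p G) (g y : G) :
    y ∈ ((g • P : Sylow p G) : Subgroup G) ↔ g⁻¹ * y * g ∈ (P : Subgroup G) := by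
  rw [Sylow.coe_subgroup_smul, Subgroup.mem_pointwise_smul_iff_inv_smul_mem, MulAut.smul_def,
    ← map_inv, MulAut.conj_apply, inv_inv]

/-- all Sylow `p`-subgroups have centralizers of the same order -/
theorem card_centralizer_sylow_eq (p : ℕ) [Fact p.Prime] (P Q : Sylow p G) :
    Nat.card (centralizer ((P : Subgroup G) : Set G)) =
      Nat.card (centralizer ((Q : Subgroup G) : Set G)) := by
  obtain ⟨g, rfl⟩ := MulAction.exists_smul_eq G P Q
  refine Nat.card_congr
    { toFun := fun x => ⟨g * x.1 * g⁻¹, ?_⟩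
      invFun := fun x => ⟨g⁻¹ * x.1 * g, ?_⟩
      left_inv := fun x => by apply Subtype.ext; simp [mul_assoc]
      right_inv := fun x => by apply Subtype.ext; simp [mul_assoc] }
  · rw [mem_centralizer_iff]
    intro y hy
    have hy' : g⁻¹ * y * g ∈ (P : Subgroup G) := (t2_mem_smul_iff p P g y).mp hy
    have h1 := (mem_centralizer_iff.mp x.2) (g⁻¹ * y * g) hy'
    calc y * (g * x.1 * g⁻¹) = g * ((g⁻¹ * y * g) * x.1) * g⁻¹ := by group
      _ = g * (x.1 * (g⁻¹ * y * g)) * g⁻¹ := by rw [h1]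
      _ = g * x.1 * g⁻¹ * y := by group
  · rw [mem_centralizer_iff]
    intro y hy
    have hy' : g * y * g⁻¹ ∈ ((g • P : Sylow p G) : Subgroup G) := by
      rw [t2_mem_smul_iff]
      have : g⁻¹ * (g * y * g⁻¹) * g = y := by group
      rw [this]
      exact hy
    have h1 := (mem_centralizer_iff.mp x.2) (g * y * g⁻¹) hy'
    calc y * (g⁻¹ * x.1 * g) = g⁻¹ * ((g * y * g⁻¹) * x.1) * g := by group
      _ = g⁻¹ * (x.1 * (g * y * g⁻¹)) * g := by rw [h1]
      _ = g⁻¹ * x.1 * g * y := by group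

/-- if `p ∣ orderOf g` (Sylow `p` of order `p`) then `orderOf g ∣ |C(P)|` -/
theorem orderOf_dvd_card_centralizer (p : ℕ) [Fact p.Prime]
    (hc : ∀ Q : Sylow p G, Nat.card (Q : Subgroup G) = p) (P : Sylow p G) (g : G)
    (hg : p ∣ orderOf g) :
    orderOf g ∣ Nat.card (centralizer ((P : Subgroup G) : Set G)) := by
  obtain ⟨j, hj⟩ := Cfsg.Agent.Lib.Helper23.exists_pow_orderOf_eq_prime g hg (orderOf_pos g).ne'
  have hz : Nat.card (zpowers (g ^ j)) = p ^ 1 := by rw [Nat.card_zpowers, hj, pow_one]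
  obtain ⟨Q, hQ⟩ := (IsPGroup.of_card hz).exists_le_sylow
  have hu1 : g ^ j ≠ 1 := by
    intro h
    rw [h, orderOf_one] at hj
    exact (Fact.out : p.Prime).one_lt.ne hj
  have hgC : g ∈ centralizer ((Q : Subgroup G) : Set G) :=
    Cfsg.Agent.Lib.Helper76.SylPrime.mem_centralizer_of_commute hc Q (g ^ j)
      (hQ (mem_zpowers _)) hu1 g (by rw [← pow_succ, ← pow_succ'])
  rw [card_centralizer_sylow_eq p P Q]
  exact Subgroup.orderOf_dvd_natCard _ hgC

/-- if `q ∣ |C(P)|` there is an element of order `p * q` -/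
theorem exists_orderOf_eq_mul (p q : ℕ) [Fact p.Prime] [Fact q.Prime] (hpq : p ≠ q)
    (hc : ∀ Q : Sylow p G, Nat.card (Q : Subgroup G) = p) (P : Sylow p G)
    (h : q ∣ Nat.card (centralizer ((P : Subgroup G) : Set G))) :
    ∃ g : G, orderOf g = p * q := by
  obtain ⟨x, hx, hx1, hxq⟩ := Cfsg.Agent.Lib.Helper76.SylPrime.exists_mem_pow_eq_one
    (centralizer ((P : Subgroup G) : Set G)) q h
  obtain ⟨y, hy, hy1⟩ := Cfsg.Agent.Lib.Helper76.SylPrime.exists_ne_one_mem hc P
  have hox : orderOf x = q := orderOf_eq_prime hxq hx1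
  have hoy : orderOf y = p :=
    orderOf_eq_prime (Cfsg.Agent.Lib.Helper76.SylPrime.pow_eq_one hc P y hy) hy1
  have hcomm : Commute y x := (mem_centralizer_iff.mp hx y hy)
  refine ⟨y * x, ?_⟩
  rw [hcomm.orderOf_mul_eq_mul_orderOf_of_coprime, hoy, hox]
  rw [hoy, hox]
  exact (Nat.coprime_primes (Fact.out : p.Prime) (Fact.out : q.Prime)).mpr hpq

/-- `q ∣ |C(P)|` implies `p ∣ |C(Q)|` -/
theorem dvd_card_centralizer_symm (p q : ℕ) [Fact p.Prime] [Fact q.Prime] (hpq : p ≠ q)
    (hcp : ∀ Q : Sylow p G, Nat.card (Q : Subgroup G) = p)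
    (hcq : ∀ Q : Sylow q G, Nat.card (Q : Subgroup G) = q) (P : Sylow p G) (Q : Sylow q G)
    (h : q ∣ Nat.card (centralizer ((P : Subgroup G) : Set G))) :
    p ∣ Nat.card (centralizer ((Q : Subgroup G) : Set G)) := by
  obtain ⟨g, hg⟩ := exists_orderOf_eq_mul p q hpq hcp P h
  have h1 := orderOf_dvd_card_centralizer q hcq Q g (by rw [hg]; exact dvd_mul_left q p)
  rw [hg] at h1
  exact dvd_trans (dvd_mul_right p q) h1

/-- three pairwise "disjoint" numbers: the sets `{g | p ∣ orderOf g}` are pairwise disjoint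
and miss `1` -/
theorem three_card_dvd_orderOf_lt (p q r : ℕ) (hp : p ≠ 1) (hq : q ≠ 1) (hr : r ≠ 1)
    (hpq : ∀ g : G, ¬ (p ∣ orderOf g ∧ q ∣ orderOf g))
    (hpr : ∀ g : G, ¬ (p ∣ orderOf g ∧ r ∣ orderOf g))
    (hqr : ∀ g : G, ¬ (q ∣ orderOf g ∧ r ∣ orderOf g)) :
    Nat.card {g : G // p ∣ orderOf g} + Nat.card {g : G // q ∣ orderOf g} +
      Nat.card {g : G // r ∣ orderOf g} < Nat.card G := by
  classical
  have hG : Fintype G := Fintype.ofFinite G
  simp only [Nat.card_eq_fintype_card, Fintype.card_subtype]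
  set A := Finset.univ.filter (fun g : G => p ∣ orderOf g) with hA
  set B := Finset.univ.filter (fun g : G => q ∣ orderOf g) with hB
  set C := Finset.univ.filter (fun g : G => r ∣ orderOf g) with hC
  have hAB : Disjoint A B := by
    rw [Finset.disjoint_left]
    intro g h1 h2
    simp only [hA, hB, Finset.mem_filter, Finset.mem_univ, true_and] at h1 h2
    exact hpq g ⟨h1, h2⟩
  have hABC : Disjoint (A ∪ B) C := by
    rw [Finset.disjoint_left]
    intro g h1 h2
    simp only [hA, hB, hC, Finset.mem_union, Finset.mem_filter, Finset.mem_univ, true_and]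
      at h1 h2
    rcases h1 with h1 | h1
    · exact hpr g ⟨h1, h2⟩
    · exact hqr g ⟨h1, h2⟩
  have hsub : (A ∪ B) ∪ C ⊆ Finset.univ.erase (1 : G) := by
    intro g hg
    simp only [hA, hB, hC, Finset.mem_union, Finset.mem_filter, Finset.mem_univ, true_and]
      at hg
    rw [Finset.mem_erase]
    refine ⟨?_, Finset.mem_univ g⟩
    rintro rfl
    rw [orderOf_one] at hg
    rcases hg with (hg | hg) | hg
    · exact hp (Nat.dvd_one.mp hg)
    · exact hq (Nat.dvd_one.mp hg)
    · exact hr (Nat.dvd_one.mp hg)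
  have h1 := Finset.card_le_card hsub
  rw [Finset.card_union_of_disjoint hABC, Finset.card_union_of_disjoint hAB,
    Finset.card_erase_of_mem (Finset.mem_univ _), Finset.card_univ] at h1
  have hpos : 0 < Fintype.card G := Fintype.card_pos
  omega

end Cfsg.Agent.S4274T
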