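import Cfsg.Agent.Lib.Helper11.S4274T2
import Cfsg.Agent.Lib.Helper62.S4274T1

/-!
# S4274 tools (helper11): re-exports the counting lemmas

* `Cfsg.Agent.S4274T.card_dvd_orderOf` (helper62, `S4274T1`)
* `Cfsg.Agent.S4274T.card_centralizer_sylow_eq`, `orderOf_dvd_card_centralizer`,
  `exists_orderOf_eq_mul`, `dvd_card_centralizer_symm`, `three_card_dvd_orderOf_lt`
  (helper11, `S4274T2`)
-/
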