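import Mathlib
import Cfsg.Agent.S4700
import Cfsg.Agent.Lib.Helper6.PSLCard
import Cfsg.Agent.Lib.Helper23.ExcGroup

/-!
# S0983 piece T1BR (helper11): the numeric consequence of the Brauer--Reynolds theorem (S4700)
-/

set_option autoImplicit false

namespace Cfsg.Agent.S983

open Subgroup

variable {G : Type*} [Group G] [Finite G]

theorem br_data [IsSimpleGroup G] (hG : ¬ IsMulCommutative G) (p : ℕ) [Fact p.Prime]
    (hc : ∀ Q : Sylow p G, Nat.card (Q : Subgroup G) = p) (n : ℕ)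
    (hn : Nat.card (Sylow p G) = 1 + n * p) :
    (3 < p ∧ (p ^ 2 - 1) * p ∣ 2 * Nat.card G) ∨
    (3 < p ∧ (∃ k : ℕ, p = 2 ^ k + 1) ∧ (p - 1) * p * (p - 2) ∣ Nat.card G) ∨
    ∃ h u : ℕ, 0 < h ∧ 0 < u ∧ n * (u + 1) = h * u * p + u ^ 2 + u + h := by
  obtain ⟨P⟩ : Nonempty (Sylow p G) := inferInstance
  have hperf : commutator G = ⊤ := Cfsg.Agent.Lib.Helper23.commutator_eq_top_of_simple hG
  have hp : p.Prime := Fact.out
  rcases Cfsg.Agent.S4700.result hperf p P (hc P) n hn with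
    ⟨F, _, _, hF, h3, ⟨e⟩⟩ | ⟨m, F, _, _, hF, hpm, h3, ⟨e⟩⟩ | ⟨h, u, hh, hu, heq⟩
  · left
    refine ⟨h3, ?_⟩
    have hcard : Nat.card (G ⧸ Cfsg.pPrimeCore p G) =
        Nat.card (Matrix.ProjectiveSpecialLinearGroup (Fin 2) F) := Nat.card_congr e.toEquiv
    have hd : Nat.card (G ⧸ Cfsg.pPrimeCore p G) ∣ Nat.card G :=
      Subgroup.card_quotient_dvd_card _
    have hpsl := Cfsg.Agent.Lib.Helper6.card_psl hF 2 (by norm_num)
    rw [Fin.prod_univ_two, ← hcard] at hpsl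
    simp only [Fin.val_zero, Fin.val_one, pow_zero, pow_one] at hpsl
    have hodd : p % 2 = 1 := by
      rcases hp.eq_two_or_odd with h2 | h2
      · omega
      · exact h2
    have hgcd : Nat.gcd 2 (p - 1) = 2 := Nat.gcd_eq_left (by omega)
    rw [hgcd] at hpsl
    have e1 : p ^ 2 - p = p * (p - 1) := by rw [Nat.mul_sub, mul_one, sq]
    rw [e1] at hpsl
    have hp1 : 0 < p - 1 := by omega
    obtain ⟨Q, hQ⟩ : ∃ Q, Q = Nat.card (G ⧸ Cfsg.pPrimeCore p G) := ⟨_, rfl⟩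
    rw [← hQ] at hpsl hd
    have h5 : 2 * Q = (p ^ 2 - 1) * p := by
      have : (p - 1) * (2 * Q) = (p - 1) * ((p ^ 2 - 1) * p) := by
        calc (p - 1) * (2 * Q) = 2 * ((p - 1) * Q) := by ring
          _ = (p ^ 2 - 1) * (p * (p - 1)) := hpsl
          _ = (p - 1) * ((p ^ 2 - 1) * p) := by ring
      exact Nat.eq_of_mul_eq_mul_left hp1 this
    rw [← h5]
    exact Nat.mul_dvd_mul_left 2 hd
  · right; left
    refine ⟨h3, ⟨m, hpm⟩, ?_⟩
    have hcard : Nat.card (G ⧸ Cfsg.pPrimeCore p G) =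
        Nat.card (Matrix.SpecialLinearGroup (Fin 2) F) := Nat.card_congr e.toEquiv
    have hd : Nat.card (G ⧸ Cfsg.pPrimeCore p G) ∣ Nat.card G :=
      Subgroup.card_quotient_dvd_card _
    have hsl := Cfsg.Agent.Lib.Helper6.card_sl hF 2 (by norm_num)
    rw [Fin.prod_univ_two, ← hcard] at hsl
    simp only [Fin.val_zero, Fin.val_one, pow_zero, pow_one] at hsl
    obtain ⟨Q, hQ⟩ : ∃ Q, Q = Nat.card (G ⧸ Cfsg.pPrimeCore p G) := ⟨_, rfl⟩
    rw [← hQ] at hsl hd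
    obtain ⟨q, hq⟩ : ∃ q, q = 2 ^ m := ⟨_, rfl⟩
    rw [← hq] at hsl hpm
    obtain ⟨k, rfl⟩ : ∃ k, q = k + 3 := ⟨q - 3, by omega⟩
    subst hpm
    have e1 : (k + 3) ^ 2 - (k + 3) = (k + 3) * (k + 2) := by
      have : (k + 3) ^ 2 = (k + 3) * (k + 2) + (k + 3) := by ring
      omega
    have e2 : (k + 3) ^ 2 - 1 = (k + 2) * (k + 4) := by
      have : (k + 3) ^ 2 = (k + 2) * (k + 4) + 1 := by ring
      omega
    rw [e1, e2] at hsl
    have e3 : k + 3 - 1 = k + 2 := by omega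
    rw [e3] at hsl
    have h5 : Q = (k + 4) * (k + 3) * (k + 2) := by
      have : (k + 2) * Q = (k + 2) * ((k + 4) * (k + 3) * (k + 2)) := by rw [hsl]; ring
      exact Nat.eq_of_mul_eq_mul_left (by omega) this
    have e4 : (k + 3 + 1 - 1) * (k + 3 + 1) * (k + 3 + 1 - 2) = Q := by
      rw [h5]
      have a1 : k + 3 + 1 - 1 = k + 3 := by omega
      have a2 : k + 3 + 1 - 2 = k + 2 := by omega
      rw [a1, a2]
      ring
    rw [e4]
    exact hd
  · right; right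
    exact ⟨h, u, hh, hu, heq⟩

end Cfsg.Agent.S983
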