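import Mathlib
import Cfsg.Agent.Lib.Helper11.S983Defs
import Cfsg.Agent.Lib.Helper11.S4274Tools
import Cfsg.Agent.Lib.Helper23.Syl
import Cfsg.Agent.Lib.Helper23.Syl2
import Cfsg.Agent.Lib.Helper23.Count
import Cfsg.Agent.Lib.Helper23.SylInter
import Cfsg.Agent.Lib.Helper76.SylPrime
import Cfsg.Agent.Lib.Helper11.S983T1BR
import Cfsg.Agent.Lib.Helper63.S983T1FIX
import Cfsg.Agent.Lib.Helper29.S983T1MAIN
import Cfsg.Agent.Lib.Helper29.S983T2
import Cfsg.Agent.Lib.Helper54.S983T3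
import Cfsg.Agent.Lib.Helper36.S983KLEIN
import Cfsg.Agent.Lib.Helper36.S983INV
import Cfsg.Agent.Lib.Helper95.S983DIH
import Cfsg.Agent.Lib.Helper47.S983IDX2

/-!
# S0983 (helper11): tool hub — the Sylow data of a simple group passes the numeric filter `cands`

Re-exports the pieces `br_data`, `fix_data`, `syl_data_core`, `mem_cands_of_data`, `mem_candsPow`,
`klein_exp`, `klein_conj`, `klein_four_dvd_centralizer`, `exists_inverting_involution`,
`klein_two_dvd_centralizer`, `card_inverted_mul_le`, `exists_odd_index_two_subgroup`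
(written by other seats) and assembles `mem_cands`.
-/

set_option autoImplicit false

namespace Cfsg.Agent.S983

open Subgroup

variable {G : Type*} [Group G] [Finite G]

theorem mem_cands [IsSimpleGroup G] (hG : ¬ IsMulCommutative G) {N p : ℕ} [Fact p.Prime]
    (h : Nat.card G = N) (hp : p ∣ N) (hpp : ¬ p ^ 2 ∣ N) :
    ∃ d c r : ℕ, Nat.card (Sylow p G) = d ∧
      (∀ P : Sylow p G, Nat.card (P : Subgroup G) = p) ∧
      (∀ P : Sylow p G, Nat.card (centralizer ((P : Subgroup G) : Set G)) = p * c) ∧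
      (∀ P : Sylow p G, Nat.card (normalizer ((P : Subgroup G) : Set G)) = p * c * r) ∧
      (d, c, r) ∈ cands N p := by
  obtain ⟨d, c, r, hd, hP, hC, hNn, h1, h2, h3, h4, h5, h6, h7, h10⟩ :=
    syl_data_core hG h hp hpp
  refine ⟨d, c, r, hd, hP, hC, hNn, ?_⟩
  have hpr : p.Prime := Fact.out
  have hp2 : 2 ≤ p := hpr.two_le
  have hN0 : 0 < N := by rw [← h]; exact Nat.card_pos
  obtain ⟨P⟩ : Nonempty (Sylow p G) := inferInstance
  have hd1 : 1 ≤ d := by
    rcases Nat.eq_zero_or_pos d with h0 | h0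
    · rw [h0, Nat.zero_mod] at h1
      omega
    · exact h0
  have hmod : (d - 1) % p = 0 :=
    Nat.sub_mod_eq_zero_of_mod_eq (by rw [h1, Nat.mod_eq_of_lt (by omega : 1 < p)])
  have hdiv := Nat.div_mul_cancel (Nat.dvd_of_mod_eq_zero hmod)
  have hnd : Nat.card (Sylow p G) = 1 + (d - 1) / p * p := by
    rw [hd, hdiv]
    omega
  have h8 := br_data hG p hP ((d - 1) / p) hnd
  rw [h] at h8
  have h9 : ∀ q : ℕ, q.Prime → q ∣ c →
      ∃ f : ℕ, f % p = 1 ∧ f % q = d % q ∧ f < d ∧ (q = 2 → f % 4 = d % 4) := by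
    intro q hq hqc
    have h9' := fix_data hG p P c (hC P) (by rw [hd]; exact h2) q hq hqc
    rw [hd] at h9'
    exact h9'
  exact mem_cands_of_data hN0 hpr h1 h2 h3 h4 h5 h6 h7 h8 h9 h10

end Cfsg.Agent.S983
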