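import Mathlib
import Cfsg.Agent.S0904
import Cfsg.Agent.Lib.Helper11.S983Tools

/-!
# S0983 (helper11): orders killed by the generic numeric Sylow filters (generated file)
-/

set_option autoImplicit false

namespace Cfsg.Agent.S983

open Subgroup Cfsg.Agent.Lib.Helper23

theorem syl_false {G : Type*} [Group G] [Finite G] [IsSimpleGroup G] {N : ℕ}
    (h : Nat.card G = N) (hnp : ¬ N.Prime) (p : ℕ) [Fact p.Prime] (hp : p ∣ N)
    (hpp : ¬ p ^ 2 ∣ N) (hc : cands N p = []) : False := by
  have hG : ¬ IsMulCommutative G := not_comm_of_simple_of_not_prime (by rw [h]; exact hnp)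
  obtain ⟨d, c, r, -, -, -, -, hmem⟩ := mem_cands hG h hp hpp
  rw [hc] at hmem
  exact absurd hmem List.not_mem_nil

theorem pow_false {G : Type*} [Group G] [Finite G] [IsSimpleGroup G] {N : ℕ}
    (h : Nat.card G = N) (hnp : ¬ N.Prime) (p a m : ℕ) [Fact p.Prime] (hN : N = p ^ a * m)
    (hm : ¬ p ∣ m) (ha : 2 ≤ a) (hc : candsPow N p a = []) : False := by
  have hG : ¬ IsMulCommutative G := not_comm_of_simple_of_not_prime (by rw [h]; exact hnp)
  have hmem := mem_candsPow hG h hN hm ha
  rw [hc] at hmem
  exact absurd hmem List.not_mem_nil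

theorem s904_false {G : Type*} [Group G] [Finite G] [IsSimpleGroup G] {N : ℕ}
    (h : Nat.card G = N) (hnp : ¬ N.Prime) (p : ℕ) [Fact p.Prime] (hp : p ∣ N)
    (hpp : ¬ p ^ 2 ∣ N) (a b x y : ℕ) (ha : a.Prime) (hb : b.Prime) (hab : a ≠ b) (hap : a ≠ p)
    (hbp : b ≠ p) (hN : N = a ^ x * b ^ y * p) (hc : ∀ t ∈ cands N p, t.2.1 ≠ 1) : False := by
  have hG : ¬ IsMulCommutative G := not_comm_of_simple_of_not_prime (by rw [h]; exact hnp)
  obtain ⟨d, c, r, -, hP, hC, -, hmem⟩ := mem_cands hG h hp hpp
  obtain ⟨P⟩ : Nonempty (Sylow p G) := inferInstance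
  have h904 : centralizer ((P : Subgroup G) : Set G) = (P : Subgroup G) :=
    Cfsg.Agent.S0904.result (G := G) a b p x y ha hb hab hap hbp (h.trans hN) P
  have h1 := hC P
  rw [h904, hP P] at h1
  have hp0 : 0 < p := (Fact.out : p.Prime).pos
  have hc1 : c = 1 := by
    have : p * 1 = p * c := by rw [mul_one]; exact h1
    exact (Nat.eq_of_mul_eq_mul_left hp0 this).symm
  exact hc _ hmem hc1

set_option maxRecDepth 100000 in
theorem ns3675 {G : Type*} [Group G] [Finite G] [IsSimpleGroup G] (h : Nat.card G = 3675) : False := by
  haveI : Fact (Nat.Prime 3) := ⟨by norm_num⟩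
  exact syl_false h (by norm_num) 3 (by norm_num) (by norm_num) (by decide +kernel)

set_option maxRecDepth 100000 in
theorem ns3696 {G : Type*} [Group G] [Finite G] [IsSimpleGroup G] (h : Nat.card G = 3696) : False := by
  haveI : Fact (Nat.Prime 11) := ⟨by norm_num⟩
  exact syl_false h (by norm_num) 11 (by norm_num) (by norm_num) (by decide +kernel)

set_option maxRecDepth 100000 in
theorem ns3840 {G : Type*} [Group G] [Finite G] [IsSimpleGroup G] (h : Nat.card G = 3840) : False := by
  haveI : Fact (Nat.Prime 5) := ⟨by norm_num⟩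
  exact s904_false h (by norm_num) 5 (by norm_num) (by norm_num) 2 3 8 1 (by norm_num)
    (by norm_num) (by norm_num) (by norm_num) (by norm_num) (by norm_num) (by decide +kernel)

set_option maxRecDepth 100000 in
theorem ns3861 {G : Type*} [Group G] [Finite G] [IsSimpleGroup G] (h : Nat.card G = 3861) : False := by
  haveI : Fact (Nat.Prime 13) := ⟨by norm_num⟩
  exact syl_false h (by norm_num) 13 (by norm_num) (by norm_num) (by decide +kernel)

set_option maxRecDepth 100000 in
theorem ns3900 {G : Type*} [Group G] [Finite G] [IsSimpleGroup G] (h : Nat.card G = 3900) : False := by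
  haveI : Fact (Nat.Prime 13) := ⟨by norm_num⟩
  exact syl_false h (by norm_num) 13 (by norm_num) (by norm_num) (by decide +kernel)

set_option maxRecDepth 100000 in
theorem ns3920 {G : Type*} [Group G] [Finite G] [IsSimpleGroup G] (h : Nat.card G = 3920) : False := by
  haveI : Fact (Nat.Prime 7) := ⟨by norm_num⟩
  exact pow_false h (by norm_num) 7 2 80 (by norm_num) (by norm_num) (by norm_num)
    (by decide +kernel)

set_option maxRecDepth 100000 in
theorem ns4056 {G : Type*} [Group G] [Finite G] [IsSimpleGroup G] (h : Nat.card G = 4056) : False := by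
  haveI : Fact (Nat.Prime 13) := ⟨by norm_num⟩
  exact pow_false h (by norm_num) 13 2 24 (by norm_num) (by norm_num) (by norm_num)
    (by decide +kernel)

set_option maxRecDepth 100000 in
theorem ns4095 {G : Type*} [Group G] [Finite G] [IsSimpleGroup G] (h : Nat.card G = 4095) : False := by
  haveI : Fact (Nat.Prime 7) := ⟨by norm_num⟩
  exact syl_false h (by norm_num) 7 (by norm_num) (by norm_num) (by decide +kernel)

set_option maxRecDepth 100000 in
theorem ns4116 {G : Type*} [Group G] [Finite G] [IsSimpleGroup G] (h : Nat.card G = 4116) : False := by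
  haveI : Fact (Nat.Prime 7) := ⟨by norm_num⟩
  exact pow_false h (by norm_num) 7 3 12 (by norm_num) (by norm_num) (by norm_num)
    (by decide +kernel)

set_option maxRecDepth 100000 in
theorem ns4125 {G : Type*} [Group G] [Finite G] [IsSimpleGroup G] (h : Nat.card G = 4125) : False := by
  haveI : Fact (Nat.Prime 11) := ⟨by norm_num⟩
  exact syl_false h (by norm_num) 11 (by norm_num) (by norm_num) (by decide +kernel)

set_option maxRecDepth 100000 in
theorem ns4160 {G : Type*} [Group G] [Finite G] [IsSimpleGroup G] (h : Nat.card G = 4160) : False := by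
  haveI : Fact (Nat.Prime 13) := ⟨by norm_num⟩
  exact syl_false h (by norm_num) 13 (by norm_num) (by norm_num) (by decide +kernel)

set_option maxRecDepth 100000 in
theorem ns4212 {G : Type*} [Group G] [Finite G] [IsSimpleGroup G] (h : Nat.card G = 4212) : False := by
  haveI : Fact (Nat.Prime 13) := ⟨by norm_num⟩
  exact syl_false h (by norm_num) 13 (by norm_num) (by norm_num) (by decide +kernel)

set_option maxRecDepth 100000 in
theorem ns4224 {G : Type*} [Group G] [Finite G] [IsSimpleGroup G] (h : Nat.card G = 4224) : False := by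
  haveI : Fact (Nat.Prime 11) := ⟨by norm_num⟩
  exact syl_false h (by norm_num) 11 (by norm_num) (by norm_num) (by decide +kernel)

set_option maxRecDepth 100000 in
theorem ns4312 {G : Type*} [Group G] [Finite G] [IsSimpleGroup G] (h : Nat.card G = 4312) : False := by
  haveI : Fact (Nat.Prime 11) := ⟨by norm_num⟩
  exact syl_false h (by norm_num) 11 (by norm_num) (by norm_num) (by decide +kernel)

set_option maxRecDepth 100000 in
theorem ns4356 {G : Type*} [Group G] [Finite G] [IsSimpleGroup G] (h : Nat.card G = 4356) : False := by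
  haveI : Fact (Nat.Prime 11) := ⟨by norm_num⟩
  exact pow_false h (by norm_num) 11 2 36 (by norm_num) (by norm_num) (by norm_num)
    (by decide +kernel)

set_option maxRecDepth 100000 in
theorem ns4368 {G : Type*} [Group G] [Finite G] [IsSimpleGroup G] (h : Nat.card G = 4368) : False := by
  haveI : Fact (Nat.Prime 13) := ⟨by norm_num⟩
  exact syl_false h (by norm_num) 13 (by norm_num) (by norm_num) (by decide +kernel)

set_option maxRecDepth 100000 in
theorem ns4400 {G : Type*} [Group G] [Finite G] [IsSimpleGroup G] (h : Nat.card G = 4400) : False := by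
  haveI : Fact (Nat.Prime 11) := ⟨by norm_num⟩
  exact syl_false h (by norm_num) 11 (by norm_num) (by norm_num) (by decide +kernel)

set_option maxRecDepth 100000 in
theorem ns4455 {G : Type*} [Group G] [Finite G] [IsSimpleGroup G] (h : Nat.card G = 4455) : False := by
  haveI : Fact (Nat.Prime 11) := ⟨by norm_num⟩
  exact syl_false h (by norm_num) 11 (by norm_num) (by norm_num) (by decide +kernel)

set_option maxRecDepth 100000 in
theorem ns4480 {G : Type*} [Group G] [Finite G] [IsSimpleGroup G] (h : Nat.card G = 4480) : False := by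
  haveI : Fact (Nat.Prime 7) := ⟨by norm_num⟩
  exact s904_false h (by norm_num) 7 (by norm_num) (by norm_num) 2 5 7 1 (by norm_num)
    (by norm_num) (by norm_num) (by norm_num) (by norm_num) (by norm_num) (by decide +kernel)

set_option maxRecDepth 100000 in
theorem ns4536 {G : Type*} [Group G] [Finite G] [IsSimpleGroup G] (h : Nat.card G = 4536) : False := by
  haveI : Fact (Nat.Prime 7) := ⟨by norm_num⟩
  exact s904_false h (by norm_num) 7 (by norm_num) (by norm_num) 2 3 3 4 (by norm_num)
    (by norm_num) (by norm_num) (by norm_num) (by norm_num) (by norm_num) (by decide +kernel)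

set_option maxRecDepth 100000 in
theorem ns4576 {G : Type*} [Group G] [Finite G] [IsSimpleGroup G] (h : Nat.card G = 4576) : False := by
  haveI : Fact (Nat.Prime 13) := ⟨by norm_num⟩
  exact syl_false h (by norm_num) 13 (by norm_num) (by norm_num) (by decide +kernel)

set_option maxRecDepth 100000 in
theorem ns4680 {G : Type*} [Group G] [Finite G] [IsSimpleGroup G] (h : Nat.card G = 4680) : False := by
  haveI : Fact (Nat.Prime 13) := ⟨by norm_num⟩
  exact syl_false h (by norm_num) 13 (by norm_num) (by norm_num) (by decide +kernel)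

set_option maxRecDepth 100000 in
theorem ns4704 {G : Type*} [Group G] [Finite G] [IsSimpleGroup G] (h : Nat.card G = 4704) : False := by
  haveI : Fact (Nat.Prime 7) := ⟨by norm_num⟩
  exact pow_false h (by norm_num) 7 2 96 (by norm_num) (by norm_num) (by norm_num)
    (by decide +kernel)

set_option maxRecDepth 100000 in
theorem ns4725 {G : Type*} [Group G] [Finite G] [IsSimpleGroup G] (h : Nat.card G = 4725) : False := by
  haveI : Fact (Nat.Prime 5) := ⟨by norm_num⟩
  exact pow_false h (by norm_num) 5 2 189 (by norm_num) (by norm_num) (by norm_num)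
    (by decide +kernel)

set_option maxRecDepth 100000 in
theorem ns4752 {G : Type*} [Group G] [Finite G] [IsSimpleGroup G] (h : Nat.card G = 4752) : False := by
  haveI : Fact (Nat.Prime 11) := ⟨by norm_num⟩
  exact syl_false h (by norm_num) 11 (by norm_num) (by norm_num) (by decide +kernel)

set_option maxRecDepth 100000 in
theorem ns4800 {G : Type*} [Group G] [Finite G] [IsSimpleGroup G] (h : Nat.card G = 4800) : False := by
  haveI : Fact (Nat.Prime 3) := ⟨by norm_num⟩
  exact s904_false h (by norm_num) 3 (by norm_num) (by norm_num) 2 5 6 2 (by norm_num)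
    (by norm_num) (by norm_num) (by norm_num) (by norm_num) (by norm_num) (by decide +kernel)

set_option maxRecDepth 100000 in
theorem ns4851 {G : Type*} [Group G] [Finite G] [IsSimpleGroup G] (h : Nat.card G = 4851) : False := by
  haveI : Fact (Nat.Prime 11) := ⟨by norm_num⟩
  exact syl_false h (by norm_num) 11 (by norm_num) (by norm_num) (by decide +kernel)

set_option maxRecDepth 100000 in
theorem ns4860 {G : Type*} [Group G] [Finite G] [IsSimpleGroup G] (h : Nat.card G = 4860) : False := by
  haveI : Fact (Nat.Prime 3) := ⟨by norm_num⟩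
  exact pow_false h (by norm_num) 3 5 20 (by norm_num) (by norm_num) (by norm_num)
    (by decide +kernel)

set_option maxRecDepth 100000 in
theorem ns4875 {G : Type*} [Group G] [Finite G] [IsSimpleGroup G] (h : Nat.card G = 4875) : False := by
  haveI : Fact (Nat.Prime 13) := ⟨by norm_num⟩
  exact syl_false h (by norm_num) 13 (by norm_num) (by norm_num) (by decide +kernel)

set_option maxRecDepth 100000 in
theorem ns4928 {G : Type*} [Group G] [Finite G] [IsSimpleGroup G] (h : Nat.card G = 4928) : False := by
  haveI : Fact (Nat.Prime 11) := ⟨by norm_num⟩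
  exact syl_false h (by norm_num) 11 (by norm_num) (by norm_num) (by decide +kernel)

set_option maxRecDepth 100000 in
theorem ns4992 {G : Type*} [Group G] [Finite G] [IsSimpleGroup G] (h : Nat.card G = 4992) : False := by
  haveI : Fact (Nat.Prime 13) := ⟨by norm_num⟩
  exact syl_false h (by norm_num) 13 (by norm_num) (by norm_num) (by decide +kernel)

set_option maxRecDepth 100000 in
theorem ns5005 {G : Type*} [Group G] [Finite G] [IsSimpleGroup G] (h : Nat.card G = 5005) : False := by
  haveI : Fact (Nat.Prime 13) := ⟨by norm_num⟩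
  exact syl_false h (by norm_num) 13 (by norm_num) (by norm_num) (by decide +kernel)

set_option maxRecDepth 100000 in
theorem ns5049 {G : Type*} [Group G] [Finite G] [IsSimpleGroup G] (h : Nat.card G = 5049) : False := by
  haveI : Fact (Nat.Prime 17) := ⟨by norm_num⟩
  exact syl_false h (by norm_num) 17 (by norm_num) (by norm_num) (by decide +kernel)

set_option maxRecDepth 100000 in
theorem ns5096 {G : Type*} [Group G] [Finite G] [IsSimpleGroup G] (h : Nat.card G = 5096) : False := by
  haveI : Fact (Nat.Prime 13) := ⟨by norm_num⟩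
  exact syl_false h (by norm_num) 13 (by norm_num) (by norm_num) (by decide +kernel)

set_option maxRecDepth 100000 in
theorem ns5100 {G : Type*} [Group G] [Finite G] [IsSimpleGroup G] (h : Nat.card G = 5100) : False := by
  haveI : Fact (Nat.Prime 17) := ⟨by norm_num⟩
  exact syl_false h (by norm_num) 17 (by norm_num) (by norm_num) (by decide +kernel)

set_option maxRecDepth 100000 in
theorem ns5145 {G : Type*} [Group G] [Finite G] [IsSimpleGroup G] (h : Nat.card G = 5145) : False := by
  haveI : Fact (Nat.Prime 5) := ⟨by norm_num⟩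
  exact syl_false h (by norm_num) 5 (by norm_num) (by norm_num) (by decide +kernel)

set_option maxRecDepth 100000 in
theorem ns5148 {G : Type*} [Group G] [Finite G] [IsSimpleGroup G] (h : Nat.card G = 5148) : False := by
  haveI : Fact (Nat.Prime 13) := ⟨by norm_num⟩
  exact syl_false h (by norm_num) 13 (by norm_num) (by norm_num) (by decide +kernel)

set_option maxRecDepth 100000 in
theorem ns5200 {G : Type*} [Group G] [Finite G] [IsSimpleGroup G] (h : Nat.card G = 5200) : False := by
  haveI : Fact (Nat.Prime 13) := ⟨by norm_num⟩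
  exact syl_false h (by norm_num) 13 (by norm_num) (by norm_num) (by decide +kernel)

set_option maxRecDepth 100000 in
theorem ns5265 {G : Type*} [Group G] [Finite G] [IsSimpleGroup G] (h : Nat.card G = 5265) : False := by
  haveI : Fact (Nat.Prime 13) := ⟨by norm_num⟩
  exact syl_false h (by norm_num) 13 (by norm_num) (by norm_num) (by decide +kernel)

set_option maxRecDepth 100000 in
theorem ns5280 {G : Type*} [Group G] [Finite G] [IsSimpleGroup G] (h : Nat.card G = 5280) : False := by
  haveI : Fact (Nat.Prime 11) := ⟨by norm_num⟩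
  exact syl_false h (by norm_num) 11 (by norm_num) (by norm_num) (by decide +kernel)

set_option maxRecDepth 100000 in
theorem ns5292 {G : Type*} [Group G] [Finite G] [IsSimpleGroup G] (h : Nat.card G = 5292) : False := by
  haveI : Fact (Nat.Prime 7) := ⟨by norm_num⟩
  exact pow_false h (by norm_num) 7 2 108 (by norm_num) (by norm_num) (by norm_num)
    (by decide +kernel)

set_option maxRecDepth 100000 in
theorem ns5304 {G : Type*} [Group G] [Finite G] [IsSimpleGroup G] (h : Nat.card G = 5304) : False := by
  haveI : Fact (Nat.Prime 17) := ⟨by norm_num⟩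
  exact syl_false h (by norm_num) 17 (by norm_num) (by norm_num) (by decide +kernel)

set_option maxRecDepth 100000 in
theorem ns5355 {G : Type*} [Group G] [Finite G] [IsSimpleGroup G] (h : Nat.card G = 5355) : False := by
  haveI : Fact (Nat.Prime 17) := ⟨by norm_num⟩
  exact syl_false h (by norm_num) 17 (by norm_num) (by norm_num) (by decide +kernel)

set_option maxRecDepth 100000 in
theorem ns5376 {G : Type*} [Group G] [Finite G] [IsSimpleGroup G] (h : Nat.card G = 5376) : False := by
  haveI : Fact (Nat.Prime 7) := ⟨by norm_num⟩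
  exact s904_false h (by norm_num) 7 (by norm_num) (by norm_num) 2 3 8 1 (by norm_num)
    (by norm_num) (by norm_num) (by norm_num) (by norm_num) (by norm_num) (by decide +kernel)

set_option maxRecDepth 100000 in
theorem ns5440 {G : Type*} [Group G] [Finite G] [IsSimpleGroup G] (h : Nat.card G = 5440) : False := by
  haveI : Fact (Nat.Prime 17) := ⟨by norm_num⟩
  exact syl_false h (by norm_num) 17 (by norm_num) (by norm_num) (by decide +kernel)

set_option maxRecDepth 100000 in
theorem ns5445 {G : Type*} [Group G] [Finite G] [IsSimpleGroup G] (h : Nat.card G = 5445) : False := by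
  haveI : Fact (Nat.Prime 5) := ⟨by norm_num⟩
  exact syl_false h (by norm_num) 5 (by norm_num) (by norm_num) (by decide +kernel)

set_option maxRecDepth 100000 in
theorem ns5508 {G : Type*} [Group G] [Finite G] [IsSimpleGroup G] (h : Nat.card G = 5508) : False := by
  haveI : Fact (Nat.Prime 17) := ⟨by norm_num⟩
  exact syl_false h (by norm_num) 17 (by norm_num) (by norm_num) (by decide +kernel)

set_option maxRecDepth 100000 in
theorem ns5544 {G : Type*} [Group G] [Finite G] [IsSimpleGroup G] (h : Nat.card G = 5544) : False := by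
  haveI : Fact (Nat.Prime 11) := ⟨by norm_num⟩
  exact syl_false h (by norm_num) 11 (by norm_num) (by norm_num) (by decide +kernel)

set_option maxRecDepth 100000 in
theorem ns5600 {G : Type*} [Group G] [Finite G] [IsSimpleGroup G] (h : Nat.card G = 5600) : False := by
  haveI : Fact (Nat.Prime 7) := ⟨by norm_num⟩
  exact s904_false h (by norm_num) 7 (by norm_num) (by norm_num) 2 5 5 2 (by norm_num)
    (by norm_num) (by norm_num) (by norm_num) (by norm_num) (by norm_num) (by decide +kernel)

set_option maxRecDepth 100000 in
theorem ns5712 {G : Type*} [Group G] [Finite G] [IsSimpleGroup G] (h : Nat.card G = 5712) : False := by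
  haveI : Fact (Nat.Prime 17) := ⟨by norm_num⟩
  exact syl_false h (by norm_num) 17 (by norm_num) (by norm_num) (by decide +kernel)

set_option maxRecDepth 100000 in
theorem ns5733 {G : Type*} [Group G] [Finite G] [IsSimpleGroup G] (h : Nat.card G = 5733) : False := by
  haveI : Fact (Nat.Prime 13) := ⟨by norm_num⟩
  exact syl_false h (by norm_num) 13 (by norm_num) (by norm_num) (by decide +kernel)

set_option maxRecDepth 100000 in
theorem ns5775 {G : Type*} [Group G] [Finite G] [IsSimpleGroup G] (h : Nat.card G = 5775) : False := by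
  haveI : Fact (Nat.Prime 11) := ⟨by norm_num⟩
  exact syl_false h (by norm_num) 11 (by norm_num) (by norm_num) (by decide +kernel)

set_option maxRecDepth 100000 in
theorem ns5808 {G : Type*} [Group G] [Finite G] [IsSimpleGroup G] (h : Nat.card G = 5808) : False := by
  haveI : Fact (Nat.Prime 11) := ⟨by norm_num⟩
  exact pow_false h (by norm_num) 11 2 48 (by norm_num) (by norm_num) (by norm_num)
    (by decide +kernel)

set_option maxRecDepth 100000 in
theorem ns5824 {G : Type*} [Group G] [Finite G] [IsSimpleGroup G] (h : Nat.card G = 5824) : False := by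
  haveI : Fact (Nat.Prime 13) := ⟨by norm_num⟩
  exact syl_false h (by norm_num) 13 (by norm_num) (by norm_num) (by decide +kernel)

set_option maxRecDepth 100000 in
theorem ns5880 {G : Type*} [Group G] [Finite G] [IsSimpleGroup G] (h : Nat.card G = 5880) : False := by
  haveI : Fact (Nat.Prime 7) := ⟨by norm_num⟩
  exact pow_false h (by norm_num) 7 2 120 (by norm_num) (by norm_num) (by norm_num)
    (by decide +kernel)

set_option maxRecDepth 100000 in
theorem ns5967 {G : Type*} [Group G] [Finite G] [IsSimpleGroup G] (h : Nat.card G = 5967) : False := by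
  haveI : Fact (Nat.Prime 17) := ⟨by norm_num⟩
  exact syl_false h (by norm_num) 17 (by norm_num) (by norm_num) (by decide +kernel)

set_option maxRecDepth 100000 in
theorem ns5984 {G : Type*} [Group G] [Finite G] [IsSimpleGroup G] (h : Nat.card G = 5984) : False := by
  haveI : Fact (Nat.Prime 17) := ⟨by norm_num⟩
  exact syl_false h (by norm_num) 17 (by norm_num) (by norm_num) (by decide +kernel)

set_option maxRecDepth 100000 in
theorem ns6000 {G : Type*} [Group G] [Finite G] [IsSimpleGroup G] (h : Nat.card G = 6000) : False := by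
  haveI : Fact (Nat.Prime 5) := ⟨by norm_num⟩
  exact pow_false h (by norm_num) 5 3 48 (by norm_num) (by norm_num) (by norm_num)
    (by decide +kernel)

set_option maxRecDepth 100000 in
theorem ns6084 {G : Type*} [Group G] [Finite G] [IsSimpleGroup G] (h : Nat.card G = 6084) : False := by
  haveI : Fact (Nat.Prime 13) := ⟨by norm_num⟩
  exact pow_false h (by norm_num) 13 2 36 (by norm_num) (by norm_num) (by norm_num)
    (by decide +kernel)

set_option maxRecDepth 100000 in
theorem ns6120 {G : Type*} [Group G] [Finite G] [IsSimpleGroup G] (h : Nat.card G = 6120) : False := by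
  haveI : Fact (Nat.Prime 17) := ⟨by norm_num⟩
  exact syl_false h (by norm_num) 17 (by norm_num) (by norm_num) (by decide +kernel)

set_option maxRecDepth 100000 in
theorem ns6160 {G : Type*} [Group G] [Finite G] [IsSimpleGroup G] (h : Nat.card G = 6160) : False := by
  haveI : Fact (Nat.Prime 11) := ⟨by norm_num⟩
  exact syl_false h (by norm_num) 11 (by norm_num) (by norm_num) (by decide +kernel)

set_option maxRecDepth 100000 in
theorem ns3780 {G : Type*} [Group G] [Finite G] [IsSimpleGroup G] (h : Nat.card G = 3780) : False := by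
  have hG : ¬ IsMulCommutative G := not_comm_of_simple_of_not_prime (by rw [h]; norm_num)
  haveI : Fact (Nat.Prime 5) := ⟨by norm_num⟩
  haveI : Fact (Nat.Prime 7) := ⟨by norm_num⟩
  obtain ⟨d5, c5, r5, -, hP5, hC5, -, hmem5⟩ := mem_cands hG h (p := 5) (by norm_num) (by norm_num)
  obtain ⟨d7, c7, r7, -, hP7, hC7, -, hmem7⟩ := mem_cands hG h (p := 7) (by norm_num) (by norm_num)
  rw [show cands 3780 5 = [(126, 3, 2)] from by decide +kernel] at hmem5
  rw [show cands 3780 7 = [(36, 5, 3)] from by decide +kernel] at hmem7
  simp only [List.mem_singleton, Prod.mk.injEq] at hmem5 hmem7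
  obtain ⟨-, rfl, -⟩ := hmem5
  obtain ⟨-, rfl, -⟩ := hmem7
  obtain ⟨P5⟩ : Nonempty (Sylow 5 G) := inferInstance
  obtain ⟨P7⟩ : Nonempty (Sylow 7 G) := inferInstance
  have h1 : 5 ∣ Nat.card (centralizer ((P7 : Subgroup G) : Set G)) := by rw [hC7 P7]; norm_num
  have h2 := Cfsg.Agent.S4274T.dvd_card_centralizer_symm 7 5 (by norm_num) hP7 hP5 P7 P5 h1
  rw [hC5 P5] at h2
  norm_num at h2

end Cfsg.Agent.S983
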