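import Mathlib
import Cfsg.Agent.Lib.Helper50.SU4Q3Def
import Cfsg.Agent.Lib.Helper71.Asch5

/-! Project SU4 (helper50), sub-piece Q3CONJ (helper11, insurance copy): transport of the package
`SymT K R`, `R ≤ GU`, `card (R ⊓ scalars) ≠ 2`, non-realisability and the normaliser inclusion by
conjugation with a unitary matrix `g`. -/

set_option autoImplicit false

namespace Cfsg.Agent.Lib.Helper11.SU4Q3CONJ

open Matrix Cfsg.Geo Cfsg.Agent.Lib.Helper71.Asch Cfsg.Agent.Lib.Helper50.SU4Q3Def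

variable {F : Type*} [Field F] [Fintype F] {q : ℕ}

theorem su4q3conj_mem (g : GL (Fin 4) F) (R : Subgroup (GL (Fin 4) F)) (y : GL (Fin 4) F) :
    y ∈ R.map (MulAut.conj g).toMonoidHom ↔ g⁻¹ * y * g ∈ R := by
  constructor
  · rintro ⟨x, hx, rfl⟩
    have e : g⁻¹ * ((MulAut.conj g).toMonoidHom x) * g = x := by
      show g⁻¹ * (g * x * g⁻¹) * g = x
      group
    rw [e]
    exact hx
  · intro h
    refine ⟨g⁻¹ * y * g, h, ?_⟩
    show g * (g⁻¹ * y * g) * g⁻¹ = y
    group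

theorem su4q3conj_central (z : GL (Fin 4) F) (hz : z ∈ scalars (Fin 4) F) (g : GL (Fin 4) F) :
    g * z = z * g := by
  obtain ⟨c, hc⟩ := (mem_scalars_iff z).1 hz
  apply Units.ext
  rw [Units.val_mul, Units.val_mul, hc, Matrix.mul_smul, Matrix.mul_one, Matrix.smul_mul,
    Matrix.one_mul]

theorem su4q3conj_scal1 (g x : GL (Fin 4) F) (h : g * x * g⁻¹ ∈ scalars (Fin 4) F) :
    x ∈ scalars (Fin 4) F := by
  have h1 := su4q3conj_central _ h g⁻¹
  have e : x = g * x * g⁻¹ := by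
    calc x = g⁻¹ * (g * x * g⁻¹) * g := by group
      _ = (g * x * g⁻¹) * g⁻¹ * g := by rw [h1]
      _ = g * x * g⁻¹ := by group
  rw [e]
  exact h

theorem su4q3conj_scal2 (g y : GL (Fin 4) F) (h : g⁻¹ * y * g ∈ scalars (Fin 4) F) :
    y ∈ scalars (Fin 4) F := by
  have h1 := su4q3conj_central _ h g
  have e : y = g⁻¹ * y * g := by
    calc y = g * (g⁻¹ * y * g) * g⁻¹ := by group
      _ = (g⁻¹ * y * g) * g * g⁻¹ := by rw [h1]
      _ = g⁻¹ * y * g := by group
  rw [e]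
  exact h

theorem su4q3conj_map_map (A B : Matrix (Fin 4) (Fin 4) F) (p : Submodule F (Fin 4 → F)) :
    (p.map (Matrix.toLin' B)).map (Matrix.toLin' A) = p.map (Matrix.toLin' (A * B)) := by
  rw [Matrix.toLin'_mul, Submodule.map_comp]

theorem su4q3conj_min (g : GL (Fin 4) F) (K R : Subgroup (GL (Fin 4) F)) (hM : IsMinNS K R) :
    IsMinNS (K.map (MulAut.conj g).toMonoidHom) (R.map (MulAut.conj g).toMonoidHom) := by
  refine ⟨Subgroup.map_mono hM.le, ?_, ?_, ?_⟩
  · intro h hh x hx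
    rw [su4q3conj_mem] at hh hx ⊢
    have e : g⁻¹ * (h * x * h⁻¹) * g = (g⁻¹ * h * g) * (g⁻¹ * x * g) * (g⁻¹ * h * g)⁻¹ := by
      group
    rw [e]
    exact hM.nrm _ hh _ hx
  · intro hle
    apply hM.ns
    intro x hx
    have h1 : g * x * g⁻¹ ∈ R.map (MulAut.conj g).toMonoidHom := by
      rw [su4q3conj_mem]
      have e : g⁻¹ * (g * x * g⁻¹) * g = x := by group
      rw [e]
      exact hx
    exact su4q3conj_scal1 g x (hle h1)
  · intro L' hL' hN'
    have hL : L'.comap (MulAut.conj g).toMonoidHom ≤ R := by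
      intro x hx
      have h1 : g * x * g⁻¹ ∈ R.map (MulAut.conj g).toMonoidHom := hL' hx
      rw [su4q3conj_mem] at h1
      have e : g⁻¹ * (g * x * g⁻¹) * g = x := by group
      rw [e] at h1
      exact h1
    have hN : Nrm K (L'.comap (MulAut.conj g).toMonoidHom) := by
      intro h hh x hx
      show g * (h * x * h⁻¹) * g⁻¹ ∈ L'
      have e : g * (h * x * h⁻¹) * g⁻¹ = (g * h * g⁻¹) * (g * x * g⁻¹) * (g * h * g⁻¹)⁻¹ := by
        group
      rw [e]
      refine hN' _ ?_ _ hx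
      rw [su4q3conj_mem]
      have e2 : g⁻¹ * (g * h * g⁻¹) * g = h := by group
      rw [e2]
      exact hh
    rcases hM.min _ hL hN with h1 | h1
    · left
      intro y hy
      apply su4q3conj_scal2 g y
      apply h1
      show g * (g⁻¹ * y * g) * g⁻¹ ∈ L'
      have e : g * (g⁻¹ * y * g) * g⁻¹ = y := by group
      rw [e]
      exact hy
    · right
      apply le_antisymm hL'
      intro y hy
      rw [su4q3conj_mem, ← h1] at hy
      have hy' : g * (g⁻¹ * y * g) * g⁻¹ ∈ L' := hy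
      have e : g * (g⁻¹ * y * g) * g⁻¹ = y := by group
      rw [e] at hy'
      exact hy'

theorem su4q3conj_abs (g : GL (Fin 4) F) (R : Subgroup (GL (Fin 4) F))
    (hA : ActsAbsolutelyIrreducibly (matrixSet R)) :
    ActsAbsolutelyIrreducibly (matrixSet (R.map (MulAut.conj g).toMonoidHom)) := by
  have hgi : (g⁻¹ : GL (Fin 4) F).1 * g.1 = 1 := Units.inv_mul g
  have hig : g.1 * (g⁻¹ : GL (Fin 4) F).1 = 1 := Units.mul_inv g
  have hmemR : ∀ x ∈ R, (g * x * g⁻¹ : GL (Fin 4) F).1 ∈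
      matrixSet (R.map (MulAut.conj g).toMonoidHom) := by
    intro x hx
    refine ⟨g * x * g⁻¹, ?_, rfl⟩
    show g * x * g⁻¹ ∈ R.map (MulAut.conj g).toMonoidHom
    rw [su4q3conj_mem]
    have e : g⁻¹ * (g * x * g⁻¹) * g = x := by group
    rw [e]
    exact hx
  constructor
  · intro W hW
    have hW' : ∀ s ∈ matrixSet (R.map (MulAut.conj g).toMonoidHom), ∀ w ∈ W, s *ᵥ w ∈ W := by
      intro s hs w hw
      have h1 := hW s hs (Submodule.mem_map_of_mem hw)
      rw [Matrix.toLin'_apply] at h1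
      exact h1
    have h0 : ∀ s ∈ matrixSet R, (W.comap (Matrix.toLin' g.1)).map (Matrix.toLin' s) ≤
        W.comap (Matrix.toLin' g.1) := by
      rintro _ ⟨x, hx, rfl⟩ _ ⟨v, hv, rfl⟩
      have hv' : Matrix.toLin' g.1 v ∈ W := hv
      rw [Matrix.toLin'_apply] at hv'
      show Matrix.toLin' g.1 (Matrix.toLin' x.1 v) ∈ W
      rw [Matrix.toLin'_apply, Matrix.toLin'_apply]
      have h1 := hW' _ (hmemR x hx) _ hv'
      have e : (g * x * g⁻¹ : GL (Fin 4) F).1 *ᵥ (g.1 *ᵥ v) = g.1 *ᵥ (x.1 *ᵥ v) := by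
        rw [Matrix.mulVec_mulVec, Matrix.mulVec_mulVec, Units.val_mul, Units.val_mul,
          Matrix.mul_assoc, hgi, Matrix.mul_one]
      rw [e] at h1
      exact h1
    rcases hA.1 _ h0 with h1 | h1
    · left
      rw [Submodule.eq_bot_iff]
      intro w hw
      have h2 : (g⁻¹ : GL (Fin 4) F).1 *ᵥ w ∈ W.comap (Matrix.toLin' g.1) := by
        rw [Submodule.mem_comap, Matrix.toLin'_apply, Matrix.mulVec_mulVec, hig,
          Matrix.one_mulVec]
        exact hw
      rw [h1, Submodule.mem_bot] at h2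
      have h3 : g.1 *ᵥ ((g⁻¹ : GL (Fin 4) F).1 *ᵥ w) = w := by
        rw [Matrix.mulVec_mulVec, hig, Matrix.one_mulVec]
      rw [← h3, h2, Matrix.mulVec_zero]
    · right
      rw [Submodule.eq_top_iff']
      intro w
      have h2 : (g⁻¹ : GL (Fin 4) F).1 *ᵥ w ∈ W.comap (Matrix.toLin' g.1) := by
        rw [h1]
        exact Submodule.mem_top
      rw [Submodule.mem_comap, Matrix.toLin'_apply, Matrix.mulVec_mulVec, hig,
        Matrix.one_mulVec] at h2
      exact h2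
  · intro M hM
    have h0 : ∀ s ∈ matrixSet R, ((g⁻¹ : GL (Fin 4) F).1 * M * g.1) * s =
        s * ((g⁻¹ : GL (Fin 4) F).1 * M * g.1) := by
      rintro _ ⟨x, hx, rfl⟩
      have h1 := hM _ (hmemR x hx)
      rw [Units.val_mul, Units.val_mul] at h1
      calc (g⁻¹ : GL (Fin 4) F).1 * M * g.1 * x.1
          = (g⁻¹ : GL (Fin 4) F).1 * (M * (g.1 * x.1 * (g⁻¹ : GL (Fin 4) F).1)) * g.1 := by
            simp only [Matrix.mul_assoc, hgi, Matrix.mul_one]
        _ = (g⁻¹ : GL (Fin 4) F).1 * ((g.1 * x.1 * (g⁻¹ : GL (Fin 4) F).1) * M) * g.1 := by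
            rw [h1]
        _ = ((g⁻¹ : GL (Fin 4) F).1 * g.1) * x.1 * ((g⁻¹ : GL (Fin 4) F).1 * M * g.1) := by
            simp only [Matrix.mul_assoc]
        _ = x.1 * ((g⁻¹ : GL (Fin 4) F).1 * M * g.1) := by rw [hgi, Matrix.one_mul]
    obtain ⟨c, hc⟩ := hA.2 _ h0
    refine ⟨c, ?_⟩
    calc M = (g.1 * (g⁻¹ : GL (Fin 4) F).1) * M * (g.1 * (g⁻¹ : GL (Fin 4) F).1) := by
          rw [hig, Matrix.one_mul, Matrix.mul_one]
      _ = g.1 * ((g⁻¹ : GL (Fin 4) F).1 * M * g.1) * (g⁻¹ : GL (Fin 4) F).1 := by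
          simp only [Matrix.mul_assoc]
      _ = c • (1 : Matrix (Fin 4) (Fin 4) F) := by
          rw [hc, Matrix.mul_smul, Matrix.mul_one, Matrix.smul_mul, hig]

/-- Q3CONJ: transport of the whole package by conjugation with a unitary matrix. -/
theorem Q3CONJ (g : GL (Fin 4) F) (hg : g ∈ Cfsg.GU 4 F q) (D : Fin 4 → Submodule F (Fin 4 → F))
    (hDg : ∀ j, D j = Submodule.span F {g.1 *ᵥ (Pi.single j 1 : Fin 4 → F)})
    (K R : Subgroup (GL (Fin 4) F)) (hS : SymT K R) (hR : R ≤ Cfsg.GU 4 F q)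
    (hc : Nat.card ↥(R ⊓ scalars (Fin 4) F) ≠ 2)
    (hnr : ¬ ∃ F₁ : Subfield F, F₁ ≠ ⊤ ∧ RealisableOver F₁ (matrixSet R))
    (hN : decompositionStabilizer
        (fun j : Fin 4 => Submodule.span F {(Pi.single j 1 : Fin 4 → F)}) ⊓
      (Cfsg.GU 4 F q ⊓ specialLinear (Fin 4) F) ≤ subgroupNormalizer R) :
    ∃ K' R' : Subgroup (GL (Fin 4) F), SymT K' R' ∧ R' ≤ Cfsg.GU 4 F q ∧
      Nat.card ↥(R' ⊓ scalars (Fin 4) F) ≠ 2 ∧
      (¬ ∃ F₁ : Subfield F, F₁ ≠ ⊤ ∧ RealisableOver F₁ (matrixSet R')) ∧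
      decompositionStabilizer D ⊓ (Cfsg.GU 4 F q ⊓ specialLinear (Fin 4) F) ≤
        subgroupNormalizer R' := by
  have hgi : (g⁻¹ : GL (Fin 4) F).1 * g.1 = 1 := Units.inv_mul g
  refine ⟨K.map (MulAut.conj g).toMonoidHom, R.map (MulAut.conj g).toMonoidHom,
    ⟨su4q3conj_min g K R hS.min, su4q3conj_abs g R hS.abs, ?_⟩, ?_, ?_, ?_, ?_⟩
  · -- commutators
    rw [← Subgroup.map_commutator]
    intro y hy
    rw [su4q3conj_mem] at hy
    exact su4q3conj_scal2 g y (hS.comm hy)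
  · -- unitary
    intro y hy
    rw [su4q3conj_mem] at hy
    have h1 := hR hy
    have e : y = g * (g⁻¹ * y * g) * g⁻¹ := by group
    rw [e]
    exact mul_mem (mul_mem hg h1) (inv_mem hg)
  · -- scalars
    have e : R.map (MulAut.conj g).toMonoidHom ⊓ scalars (Fin 4) F = R ⊓ scalars (Fin 4) F := by
      ext y
      rw [Subgroup.mem_inf, Subgroup.mem_inf, su4q3conj_mem]
      constructor
      · rintro ⟨h1, h2⟩
        have h3 := su4q3conj_central y h2 g⁻¹
        have e1 : g⁻¹ * y * g = y := by rw [h3]; group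
        rw [e1] at h1
        exact ⟨h1, h2⟩
      · rintro ⟨h1, h2⟩
        have h3 := su4q3conj_central y h2 g⁻¹
        have e1 : g⁻¹ * y * g = y := by rw [h3]; group
        rw [e1]
        exact ⟨h1, h2⟩
    rw [e]
    exact hc
  · -- realisability
    rintro ⟨F₁, hF₁, B, hB⟩
    apply hnr
    refine ⟨F₁, hF₁, B * g, ?_⟩
    rintro _ ⟨x, hx, rfl⟩ i j
    have hmem : (g * x * g⁻¹ : GL (Fin 4) F).1 ∈
        matrixSet (R.map (MulAut.conj g).toMonoidHom) := by
      refine ⟨g * x * g⁻¹, ?_, rfl⟩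
      show g * x * g⁻¹ ∈ R.map (MulAut.conj g).toMonoidHom
      rw [su4q3conj_mem]
      have e : g⁻¹ * (g * x * g⁻¹) * g = x := by group
      rw [e]
      exact hx
    have h1 := hB _ hmem i j
    have e : ((B * g : GL (Fin 4) F) : Matrix (Fin 4) (Fin 4) F) * x.1 *
        (((B * g)⁻¹ : GL (Fin 4) F) : Matrix (Fin 4) (Fin 4) F) =
        (B : Matrix (Fin 4) (Fin 4) F) * (g * x * g⁻¹ : GL (Fin 4) F).1 *
          ((B⁻¹ : GL (Fin 4) F) : Matrix (Fin 4) (Fin 4) F) := by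
      rw [_root_.mul_inv_rev]
      simp only [Units.val_mul, Matrix.mul_assoc]
    rw [e]
    exact h1
  · -- normaliser
    intro y hy
    obtain ⟨hyD, hy2⟩ := Subgroup.mem_inf.1 hy
    obtain ⟨hyGU, hySL⟩ := Subgroup.mem_inf.1 hy2
    have hDmap : ∀ j, D j = (Submodule.span F {(Pi.single j 1 : Fin 4 → F)}).map
        (Matrix.toLin' g.1) := by
      intro j
      rw [hDg j, Submodule.map_span, Set.image_singleton, Matrix.toLin'_apply]
    have hxD : g⁻¹ * y * g ∈ decompositionStabilizer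
        (fun j : Fin 4 => Submodule.span F {(Pi.single j 1 : Fin 4 → F)}) := by
      obtain ⟨σ, hσ⟩ := hyD
      refine ⟨σ, fun i => ?_⟩
      have h1 := congrArg (Submodule.map (Matrix.toLin' (g⁻¹ : GL (Fin 4) F).1)) (hσ i)
      rw [hDmap i, hDmap (σ i), su4q3conj_map_map, su4q3conj_map_map, su4q3conj_map_map, hgi,
        Matrix.toLin'_one, Submodule.map_id] at h1
      show (Submodule.span F {(Pi.single i 1 : Fin 4 → F)}).map
        (Matrix.toLin' ((g⁻¹ * y * g : GL (Fin 4) F) : Matrix (Fin 4) (Fin 4) F)) =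
        Submodule.span F {(Pi.single (σ i) 1 : Fin 4 → F)}
      rw [Units.val_mul, Units.val_mul]
      exact h1
    have hxGU : g⁻¹ * y * g ∈ Cfsg.GU 4 F q := mul_mem (mul_mem (inv_mem hg) hyGU) hg
    have hxSL : g⁻¹ * y * g ∈ specialLinear (Fin 4) F := by
      have h1 : Matrix.GeneralLinearGroup.det y = 1 := MonoidHom.mem_ker.1 hySL
      show g⁻¹ * y * g ∈ (Matrix.GeneralLinearGroup.det : GL (Fin 4) F →* Fˣ).ker
      rw [MonoidHom.mem_ker, map_mul, map_mul, map_inv, h1, mul_one, inv_mul_cancel]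
    have hx := hN (Subgroup.mem_inf.2 ⟨hxD, Subgroup.mem_inf.2 ⟨hxGU, hxSL⟩⟩)
    unfold subgroupNormalizer at hx ⊢
    rw [Subgroup.mem_normalizer_iff] at hx ⊢
    intro h
    have h1 := hx (g⁻¹ * h * g)
    have e : g⁻¹ * (y * h * y⁻¹) * g = (g⁻¹ * y * g) * (g⁻¹ * h * g) * (g⁻¹ * y * g)⁻¹ := by
      group
    constructor
    · intro hh
      have h2 := h1.1 ((su4q3conj_mem g R h).1 hh)
      exact (su4q3conj_mem g R _).2 (by rw [e]; exact h2)
    · intro hh
      have h2 := (su4q3conj_mem g R _).1 hh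
      rw [e] at h2
      exact (su4q3conj_mem g R h).2 (h1.2 h2)

end Cfsg.Agent.Lib.Helper11.SU4Q3CONJ
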