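import Mathlib

set_option autoImplicit false

namespace Cfsg.Agent.Lib.Helper11

open MulAction

section Basic

variable {G α : Type*} [Group G] [MulAction G α]

/-- The point stabiliser of a sharply `(k+1)`-transitive action has trivial stabilisers of
injective `k`-tuples of the remaining points. -/
theorem sharp_ofStabilizer {k : ℕ} (hs : ∀ x : Fin (k + 1) ↪ α, stabilizer G x = ⊥) (a : α)
    (y : Fin k ↪ SubMulAction.ofStabilizer G a) : stabilizer (stabilizer G a) y = ⊥ := by
  rw [eq_bot_iff]
  intro g hg
  rw [Subgroup.mem_bot]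
  have hg' : (g : G) ∈ stabilizer G (SubMulAction.ofStabilizer.snoc y) := by
    rw [mem_stabilizer_iff]
    ext i
    rw [Function.Embedding.smul_apply]
    rcases Fin.eq_castSucc_or_eq_last i with ⟨j, rfl⟩ | rfl
    · rw [SubMulAction.ofStabilizer.snoc_castSucc]
      have h1 : g • y = y := hg
      have h2 : (((g • y) j : SubMulAction.ofStabilizer G a) : α) = ((y j : _) : α) := by
        rw [h1]
      exact h2
    · rw [SubMulAction.ofStabilizer.snoc_last]
      exact g.2
  rw [hs] at hg'
  exact Subtype.ext (Subgroup.mem_bot.mp hg')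

/-- The order of a sharply `k`-transitive group. -/
theorem card_of_sharp [Finite α] {k : ℕ} [IsMultiplyPretransitive G α k]
    (hs : ∀ x : Fin k ↪ α, stabilizer G x = ⊥) (hk : k ≤ Nat.card α) :
    Nat.card G = (Nat.card α).descFactorial k := by
  classical
  have := Fintype.ofFinite α
  obtain ⟨x₀⟩ : Nonempty (Fin k ↪ α) :=
    Function.Embedding.nonempty_of_card_le (by simpa [Nat.card_eq_fintype_card] using hk)
  have h1 := index_stabilizer_of_transitive G x₀
  rw [hs, Subgroup.index_bot] at h1
  rw [h1, Nat.card_eq_fintype_card, Fintype.card_embedding_eq, Fintype.card_fin,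
    Nat.card_eq_fintype_card]

/-- A sharply `k`-transitive action on at least `k` points is faithful. -/
theorem eq_one_of_forall_smul [Finite α] {k : ℕ} (hs : ∀ x : Fin k ↪ α, stabilizer G x = ⊥)
    (hk : k ≤ Nat.card α) (g : G) (hg : ∀ a : α, g • a = a) : g = 1 := by
  classical
  have := Fintype.ofFinite α
  obtain ⟨x₀⟩ : Nonempty (Fin k ↪ α) :=
    Function.Embedding.nonempty_of_card_le (by simpa [Nat.card_eq_fintype_card] using hk)
  have : g ∈ stabilizer G x₀ := by
    rw [mem_stabilizer_iff]
    ext i
    rw [Function.Embedding.smul_apply]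
    exact hg _
  rw [hs] at this
  exact Subgroup.mem_bot.mp this

theorem finite_of_sharp [Finite α] {k : ℕ} [IsMultiplyPretransitive G α k]
    (hs : ∀ x : Fin k ↪ α, stabilizer G x = ⊥) (hk : k ≤ Nat.card α) : Finite G := by
  apply Nat.finite_of_card_ne_zero
  rw [card_of_sharp hs hk]
  exact (Nat.descFactorial_pos.mpr hk).ne'

/-- In a sharply `(k+1)`-transitive action the point stabiliser acts sharply `k`-transitively on
the remaining points (transitivity part). -/
theorem pretransitive_ofStabilizer [Finite α] {k : ℕ} [h : IsMultiplyPretransitive G α (k + 1)]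
    (hk : k + 1 ≤ Nat.card α) (a : α) :
    IsMultiplyPretransitive (stabilizer G a) (SubMulAction.ofStabilizer G a) k := by
  have : IsPretransitive G α := by
    rw [← is_one_pretransitive_iff]
    exact isMultiplyPretransitive_of_le (n := k + 1) (by omega) hk
  exact SubMulAction.ofStabilizer.isMultiplyPretransitive.mp h

end Basic

section SylowPrime

variable {G α : Type*} [Group G] [MulAction G α]

/-- A Sylow `p`-subgroup of a finite group with `p ∥ |G|` has order `p`. -/
theorem card_sylow_of_prime_exact [Finite G] {p : ℕ} [hp : Fact p.Prime]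
    (hpG : p ∣ Nat.card G) (hp2 : ¬ p ^ 2 ∣ Nat.card G) (P : Sylow p G) : Nat.card P = p := by
  obtain ⟨n, hn⟩ := P.isPGroup'.exists_card_eq
  have h1 : p ∣ Nat.card P := P.dvd_card_of_dvd_card hpG
  have h2 : Nat.card P ∣ Nat.card G := Subgroup.card_subgroup_dvd_card _
  rw [hn] at h1 h2
  have hn0 : n ≠ 0 := by
    rintro rfl
    rw [pow_zero] at h1
    exact hp.out.one_lt.ne' (Nat.dvd_one.mp h1)
  have hn2 : n < 2 := by
    by_contra h
    push Not at h
    exact hp2 ((pow_dvd_pow p h).trans h2)
  have : n = 1 := by omega
  rw [hn, this, pow_one]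

/-- A subgroup `P` of prime order `p` acting on `p` points, some element of which moves a point,
acts freely and transitively. -/
theorem regular_of_prime_card [Finite α] {p : ℕ} [hp : Fact p.Prime] (hα : Nat.card α = p)
    (P : Subgroup G) (hP : Nat.card P = p)
    (hfaith : ∀ g : G, (∀ a : α, g • a = a) → g = 1) (x : α) :
    stabilizer P x = ⊥ ∧ orbit P x = Set.univ := by
  have hfin : Finite P := Nat.finite_of_card_ne_zero (by rw [hP]; exact hp.out.ne_zero)
  have hfact : Fact (Nat.card P).Prime := ⟨by rw [hP]; exact hp.out⟩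
  have hPnt : Nontrivial P := Finite.one_lt_card_iff_nontrivial.mp (by rw [hP]; exact hp.out.one_lt)
  have hmod := (IsPGroup.of_card (n := 1) (by rw [hP, pow_one]) : IsPGroup p P).card_modEq_card_fixedPoints α
  rw [hα] at hmod
  -- no fixed points
  have hfix : fixedPoints P α = ∅ := by
    by_contra hne
    have hne' : (fixedPoints P α).Nonempty := Set.nonempty_iff_ne_empty.mpr hne
    have hdvd : p ∣ (fixedPoints P α).ncard := by
      rw [← Nat.card_coe_set_eq]
      exact Nat.modEq_zero_iff_dvd.mp (hmod.symm.trans (Nat.modEq_zero_iff_dvd.mpr dvd_rfl))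
    have hpos : 0 < (fixedPoints P α).ncard := (Set.ncard_pos (Set.toFinite _)).mpr hne'
    have hle : (fixedPoints P α).ncard ≤ Nat.card α := Set.ncard_le_card _
    have hge : p ≤ (fixedPoints P α).ncard := Nat.le_of_dvd hpos hdvd
    have huniv : fixedPoints P α = Set.univ := by
      rw [Set.eq_univ_iff_ncard]
      omega
    obtain ⟨g, hg⟩ := exists_ne (1 : P)
    apply hg
    apply Subtype.ext
    apply hfaith
    intro a
    have ha : a ∈ fixedPoints P α := by rw [huniv]; exact Set.mem_univ a
    exact ha g
  have hstab : stabilizer P x = ⊥ := by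
    rcases Subgroup.eq_bot_or_eq_top_of_prime_card (stabilizer P x) with h | h
    · exact h
    · exfalso
      have hx : x ∈ fixedPoints P α := by
        intro g
        have : g ∈ stabilizer P x := by rw [h]; exact Subgroup.mem_top g
        exact this
      rw [hfix] at hx
      exact hx
  refine ⟨hstab, ?_⟩
  have hidx := index_stabilizer P x
  rw [hstab, Subgroup.index_bot, hP] at hidx
  rw [Set.eq_univ_iff_ncard, ← hidx, hα]

/-- Sylow `p`-normaliser in a faithful group of prime degree `p` with `p ∥ |G|`: its order is `p * d`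
with `d ∣ p - 1`. -/
theorem card_normalizer_sylow_prime_degree [Finite G] [Finite α] {p : ℕ} [hp : Fact p.Prime]
    (hα : Nat.card α = p) (hfaith : ∀ g : G, (∀ a : α, g • a = a) → g = 1)
    (hpG : p ∣ Nat.card G) (hp2 : ¬ p ^ 2 ∣ Nat.card G) (P : Sylow p G) :
    ∃ d, d ∣ p - 1 ∧ Nat.card (Subgroup.normalizer ((P : Subgroup G) : Set G)) = p * d := by
  have hPcard : Nat.card P = p := card_sylow_of_prime_exact hpG hp2 P
  have hcyc : IsCyclic P := isCyclic_of_prime_card hPcard
  have hcomm : IsMulCommutative P := hcyc.isMulCommutative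
  -- the centraliser of P acts freely
  have hCcard : Nat.card (Subgroup.centralizer ((P : Subgroup G) : Set G)) = p := by
    have hne : Nonempty α := by
      apply (Nat.card_pos_iff.mp _).1
      rw [hα]; exact hp.out.pos
    obtain ⟨x⟩ := hne
    have hreg := regular_of_prime_card hα (P : Subgroup G) hPcard hfaith x
    have hCstab : stabilizer (Subgroup.centralizer ((P : Subgroup G) : Set G)) x = ⊥ := by
      rw [eq_bot_iff]
      intro h hh
      rw [Subgroup.mem_bot]
      apply Subtype.ext
      apply hfaith
      intro y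
      have hy : y ∈ orbit (P : Subgroup G) x := by rw [hreg.2]; exact Set.mem_univ y
      obtain ⟨g, rfl⟩ := hy
      have hcomm' : (g : G) * (h : G) = (h : G) * (g : G) := h.2 g g.2
      have hx : (h : G) • x = x := hh
      show (h : G) • ((g : G) • x) = (g : G) • x
      rw [← mul_smul, ← hcomm', mul_smul, hx]
    have hidx := index_stabilizer (Subgroup.centralizer ((P : Subgroup G) : Set G)) x
    rw [hCstab, Subgroup.index_bot] at hidx
    have hle : (orbit (Subgroup.centralizer ((P : Subgroup G) : Set G)) x).ncard ≤ Nat.card α :=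
      Set.ncard_le_card _
    have hge : Nat.card (P : Subgroup G) ≤
        Nat.card (Subgroup.centralizer ((P : Subgroup G) : Set G)) :=
      Nat.le_of_dvd Nat.card_pos (Subgroup.card_dvd_of_le (Subgroup.le_centralizer (P : Subgroup G)))
    omega
  have key := Subgroup.card_dvd_of_injective _
    (QuotientGroup.kerLift_injective (P : Subgroup G).normalizerMonoidHom)
  rw [Subgroup.normalizerMonoidHom_ker, ← Subgroup.index, ← Subgroup.relIndex] at key
  rw [IsCyclic.card_mulAut, hPcard, Nat.totient_prime hp.out] at key
  refine ⟨_, key, ?_⟩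
  have hCN : Subgroup.centralizer ((P : Subgroup G) : Set G) ≤
      Subgroup.normalizer ((P : Subgroup G) : Set G) := Subgroup.centralizer_le_normalizer _
  have h1 := Subgroup.relIndex_mul_relIndex ⊥ _ _ bot_le hCN
  rw [Subgroup.relIndex_bot_left, Subgroup.relIndex_bot_left, hCcard] at h1
  exact h1.symm

end SylowPrime

end Cfsg.Agent.Lib.Helper11
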